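import Groth.Agent.UnivSep5.FPCore
import Groth.Agent.GrFlat5.FlatPullback
import Groth.Agent.QCoh.FT
import Mathlib.AlgebraicGeometry.Fiber

/-!
# Fibrewise injectivity of restriction to an open subscheme
-/

set_option autoImplicit false
set_option linter.style.haveILetI false
set_option backward.isDefEq.respectTransparency false
set_option backward.isDefEq.respectTransparency.types false

universe u

open CategoryTheory CategoryTheory.Limits AlgebraicGeometry TopologicalSpace
open scoped TensorProduct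

namespace Groth.Agent.UnivSep5

variable {X S : Scheme.{u}}

/-- The sections on `U` whose non-vanishing locus lies in `U₁`. -/
def openIdeal {U : X.Opens} (U₁ : X.Opens) : Ideal Γ(X, U) where
  carrier := {h | X.basicOpen h ≤ U₁}
  add_mem' ha hb := (X.basicOpen_add_le _ _).trans (sup_le ha hb)
  zero_mem' := by simp
  smul_mem' c x hx := by
    show X.basicOpen (c * x) ≤ U₁
    rw [Scheme.basicOpen_mul]
    exact inf_le_right.trans hx

theorem exists_mem_openIdeal {U U₁ : X.Opens} (hU : IsAffineOpen U) {x : X} (hx : x ∈ U) (hx₁ : x ∈ U₁) :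
    ∃ h ∈ openIdeal (U := U) U₁, x ∈ X.basicOpen h := by
  obtain ⟨h, hle, hxh⟩ := hU.exists_basicOpen_le (V := U₁) ⟨x, hx₁⟩ hx
  exact ⟨h, hle, hxh⟩

variable {u : X ⟶ S} {F : X.Modules}

theorem noKill_of_fibre {V : S.Opens} (hV : IsAffineOpen V) {U : X.Opens} (hU : IsAffineOpen U)
    (hUV : U ≤ u ⁻¹ᵁ V) (hF : Coh.IsQCoh F) (U₁ : X.Opens)
    (h : ∀ (s : S) (W : (pullback u (S.fromSpecResidueField s)).Opens),
      Function.Injective (((Scheme.Modules.pullback (pullback.fst u (S.fromSpecResidueField s))).obj F).presheaf.map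
        (homOfLE (inf_le_left : W ⊓ (pullback.fst u (S.fromSpecResidueField s)) ⁻¹ᵁ U₁ ≤ W)).op)) :
    letI := (u.appLE V U hUV).hom.toAlgebra
    letI : Module Γ(S, V) Γ(F, U) := Module.compHom _ (u.appLE V U hUV).hom
    haveI : IsScalarTower Γ(S, V) Γ(X, U) Γ(F, U) := .of_algebraMap_smul fun _ _ => rfl
    ∀ (p : Ideal Γ(S, V)) [p.IsPrime], NoKill Γ(S, V) Γ(X, U) Γ(F, U) (openIdeal U₁) p := by
  letI algB : Algebra Γ(S, V) Γ(X, U) := (u.appLE V U hUV).hom.toAlgebra
  letI : Module Γ(S, V) Γ(F, U) := Module.compHom _ (u.appLE V U hUV).hom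
  haveI : IsScalarTower Γ(S, V) Γ(X, U) Γ(F, U) := .of_algebraMap_smul fun _ _ => rfl
  intro p hp y hy
  let s : S := hV.fromSpec ⟨p, hp⟩
  have hsV : s ∈ V := hV.range_fromSpec.le ⟨⟨p, hp⟩, rfl⟩
  let T := Spec (S.residueField s)
  let k := S.fromSpecResidueField s
  let g' := pullback.fst u k
  let u' := pullback.snd u k
  have hkV : (⊤ : T.Opens) ≤ k ⁻¹ᵁ V := fun z _ => by
    show k z ∈ V
    have : k z ∈ Set.range k := ⟨z, rfl⟩
    rw [Scheme.range_fromSpecResidueField, Set.mem_singleton_iff] at this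
    rw [this]
    exact hsV
  have hT : IsAffineOpen (⊤ : T.Opens) := isAffineOpen_top T
  let hc : IsPullback g' u' u k := IsPullback.of_hasPullback u k
  let W : (pullback u k).Opens := g' ⁻¹ᵁ U ⊓ u' ⁻¹ᵁ ⊤
  have hW : IsAffineOpen W := by
    haveI : IsAffine _ := hV
    haveI : IsAffine _ := hT
    haveI : IsAffine _ := hU
    exact .of_isIso (Scheme.Hom.isPullback_resLE hc hkV hUV (UY := W) rfl).isoPullback.hom
  have hpo := (isIso_pushoutSection_iff hc hkV hUV (UY := W) rfl).mp
    (isIso_pushoutSection_of_isAffineOpen hc hkV hUV rfl hV hT hU)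
  let N := (Scheme.Modules.pullback g').obj F
  let K := Γ(T, ⊤)
  letI : Algebra Γ(S, V) K := (k.appLE V ⊤ hkV).hom.toAlgebra
  letI : Algebra Γ(X, U) Γ(pullback u k, W) := (g'.appLE U W inf_le_left).hom.toAlgebra
  letI : Algebra K Γ(pullback u k, W) := (u'.appLE ⊤ W inf_le_right).hom.toAlgebra
  letI : Algebra Γ(S, V) Γ(pullback u k, W) := (u.appLE V U hUV ≫ g'.appLE U W inf_le_left).hom.toAlgebra
  haveI : IsScalarTower Γ(S, V) Γ(X, U) Γ(pullback u k, W) := .of_algebraMap_eq fun _ => rfl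
  haveI : IsScalarTower Γ(S, V) K Γ(pullback u k, W) := .of_algebraMap_eq fun r => congr($(hpo.w).hom r)
  haveI : Algebra.IsPushout Γ(S, V) K Γ(X, U) Γ(pullback u k, W) :=
    CommRingCat.isPushout_iff_isPushout.mp hpo.flip
  letI : Module Γ(X, U) Γ(N, W) := Module.compHom _ (g'.appLE U W inf_le_left).hom
  haveI : IsScalarTower Γ(X, U) Γ(pullback u k, W) Γ(N, W) := .of_algebraMap_smul fun _ _ => rfl
  let l : Γ(F, U) →ₗ[Γ(X, U)] Γ(N, W) :=
    { toFun := QCoh.pullSec g' F inf_le_left
      map_add' := QCoh.pullSec_add g' F inf_le_left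
      map_smul' := fun r m => QCoh.pullSec_smul g' F inf_le_left r m }
  have hb : IsBaseChange Γ(pullback u k, W) l :=
    QCoh.isBaseChange_pullback hU g' hW hF inf_le_left (fun _ => rfl) l fun _ => rfl
  letI : Module K Γ(N, W) := Module.compHom _ (u'.appLE ⊤ W inf_le_right).hom
  haveI : IsScalarTower K Γ(pullback u k, W) Γ(N, W) := .of_algebraMap_smul fun _ _ => rfl
  let Θ : K ⊗[Γ(S, V)] Γ(F, U) ≃ₗ[K] Γ(N, W) :=
    (Algebra.IsPushout.cancelBaseChange Γ(S, V) K Γ(X, U) Γ(pullback u k, W) Γ(F, U)).symm.trans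
      (hb.equiv.restrictScalars K)
  have hK : IsField K :=
    (Scheme.ΓSpecIso (S.residueField s)).commRingCatIsoToRingEquiv.toMulEquiv.isField (Field.toIsField _)
  have hker : ∀ r, algebraMap Γ(S, V) K r = 0 ↔ r ∈ p := by
    intro r
    have h1 : s ∈ S.basicOpen r ↔ r ∉ p := by
      have := hV.fromSpec_preimage_basicOpen r
      exact (iff_of_eq (congrArg (fun O : (Spec Γ(S, V)).Opens => (⟨p, hp⟩ : PrimeSpectrum Γ(S, V)) ∈ O) this))
    constructor
    · intro h0
      by_contra hr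
      have hm : (IsLocalRing.closedPoint (S.residueField s) : T) ∈ T.basicOpen (k.appLE V ⊤ hkV r) := by
        rw [Scheme.basicOpen_appLE]
        refine ⟨trivial, ?_⟩
        show k _ ∈ S.basicOpen r
        rw [Scheme.fromSpecResidueField_apply]
        exact h1.2 hr
      rw [show k.appLE V ⊤ hkV r = 0 from h0, Scheme.basicOpen_zero] at hm
      exact hm
    · intro hr
      by_contra h0
      obtain ⟨b, hb⟩ := hK.mul_inv_cancel h0
      have hu : IsUnit (k.appLE V ⊤ hkV r) := IsUnit.of_mul_eq_one _ hb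
      have hm : (IsLocalRing.closedPoint (S.residueField s) : T) ∈ T.basicOpen (k.appLE V ⊤ hkV r) := by
        rw [Scheme.basicOpen_of_isUnit _ hu]
        trivial
      rw [Scheme.basicOpen_appLE] at hm
      have h2 : k _ ∈ S.basicOpen r := hm.2
      rw [Scheme.fromSpecResidueField_apply] at h2
      exact h1.1 h2 hr
  let ψ : p.ResidueField →ₐ[Γ(S, V)] K :=
    Ideal.ResidueField.liftₐ p (Algebra.ofId Γ(S, V) K) (fun r hr => (hker r).2 hr) fun r hr => by
      obtain ⟨b, hb⟩ := hK.mul_inv_cancel (fun h0 => hr ((hker r).1 h0))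
      exact IsUnit.of_mul_eq_one _ hb
  haveI : Nontrivial K := ⟨hK.exists_pair_ne⟩
  let Φ : Γ(F, U) ⊗[Γ(S, V)] p.ResidueField → Γ(N, W) := fun w =>
    Θ (TensorProduct.comm Γ(S, V) Γ(F, U) K (ψ.toLinearMap.lTensor Γ(F, U) w))
  have hΦsmul : ∀ (b : Γ(X, U)) w, Φ (b • w) = algebraMap Γ(X, U) Γ(pullback u k, W) b • Φ w := by
    intro b w
    induction w using TensorProduct.induction_on with
    | zero => simp [Φ]
    | tmul m c =>
      simp only [Φ, TensorProduct.smul_tmul', LinearMap.lTensor_tmul, TensorProduct.comm_tmul]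
      simp only [Θ, LinearEquiv.trans_apply, Algebra.IsPushout.cancelBaseChange_symm_tmul,
        LinearEquiv.restrictScalars_apply, hb.equiv_tmul, map_smul]
      rw [← algebraMap_smul Γ(pullback u k, W) b (l m), smul_comm]
    | add a c ha hc =>
      simp only [Φ, smul_add, map_add] at ha hc ⊢
      rw [ha, hc]
  have hz : Φ y = 0 := by
    refine h s W ?_
    rw [map_zero]
    refine QCoh.eq_zero_of_locally _ _ fun x hx => ?_
    obtain ⟨b, hb', hxb⟩ := exists_mem_openIdeal hU (show g' x ∈ U from hx.1.1) (show g' x ∈ U₁ from hx.2)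
    let D := (pullback u k).basicOpen (algebraMap Γ(X, U) Γ(pullback u k, W) b)
    have hDle : D ≤ W ⊓ g' ⁻¹ᵁ U₁ := by
      refine le_inf ((pullback u k).basicOpen_le _) ?_
      show (pullback u k).basicOpen (g'.appLE U W inf_le_left b) ≤ _
      rw [Scheme.basicOpen_appLE]
      exact inf_le_right.trans fun z hz => hb' hz
    refine ⟨D, homOfLE hDle, ?_, ?_⟩
    · show x ∈ (pullback u k).basicOpen (g'.appLE U W inf_le_left b)
      rw [Scheme.basicOpen_appLE]
      exact ⟨hx.1, hxb⟩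
    · rw [QCoh.map_map]
      have hDW : D ≤ W := (pullback u k).basicOpen_le _
      change N.presheaf.map (homOfLE hDW).op (Φ y) = 0
      have h1 := congrArg (N.presheaf.map (homOfLE hDW).op) (hΦsmul b y)
      rw [hy b hb', QCoh.map_smul'] at h1
      have h0 : Φ 0 = 0 := by simp [Φ]
      rw [h0, map_zero] at h1
      have hu : IsUnit ((pullback u k).presheaf.map (homOfLE hDW).op
          (algebraMap Γ(X, U) Γ(pullback u k, W) b)) :=
        RingedSpace.isUnit_res_basicOpen (pullback u k).toRingedSpace _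
      exact hu.smul_eq_zero.1 h1.symm
  letI : Algebra p.ResidueField K := ψ.toRingHom.toAlgebra
  haveI : IsScalarTower Γ(S, V) p.ResidueField K := .of_algebraMap_eq fun c => (ψ.commutes c).symm
  obtain ⟨r₀, hr₀⟩ := (Algebra.linearMap p.ResidueField K).exists_leftInverse_of_injective
    (LinearMap.ker_eq_bot.2 ψ.toRingHom.injective)
  let r : K →ₗ[Γ(S, V)] p.ResidueField := r₀.restrictScalars Γ(S, V)
  have hr : r ∘ₗ ψ.toLinearMap = LinearMap.id := LinearMap.ext fun c => LinearMap.congr_fun hr₀ c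
  have h3 := Θ.injective (hz.trans (map_zero _).symm)
  have h4 := (TensorProduct.comm Γ(S, V) Γ(F, U) K).injective (h3.trans (map_zero _).symm)
  have h5 := congrArg (r.lTensor Γ(F, U)) h4
  rwa [← LinearMap.comp_apply, ← LinearMap.lTensor_comp, hr, LinearMap.lTensor_id, LinearMap.id_apply,
    map_zero] at h5

/-- Fibrewise injectivity of restriction to `U₁` gives injectivity after every base change. -/
theorem restriction_injective [LocallyOfFinitePresentation u] (hF : Coh.IsQCoh F) (hfp : CohB1.IsFP F)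
    (hflat : FlatMod.IsFlatOver u F) (U₁ : X.Opens)
    (h : ∀ (s : S) (W : (pullback u (S.fromSpecResidueField s)).Opens),
      Function.Injective (((Scheme.Modules.pullback (pullback.fst u (S.fromSpecResidueField s))).obj F).presheaf.map
        (homOfLE (inf_le_left : W ⊓ (pullback.fst u (S.fromSpecResidueField s)) ⁻¹ᵁ U₁ ≤ W)).op))
    {S' : Scheme.{u}} (k : S' ⟶ S) (V₁ : (pullback u k).Opens) :
    Function.Injective (((Scheme.Modules.pullback (pullback.fst u k)).obj F).presheaf.map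
        (homOfLE (inf_le_left : V₁ ⊓ (pullback.fst u k) ⁻¹ᵁ U₁ ≤ V₁)).op) := by
  let g' := pullback.fst u k
  let u' := pullback.snd u k
  let N := (Scheme.Modules.pullback g').obj F
  rw [injective_iff_map_eq_zero]
  intro t ht
  refine QCoh.eq_zero_of_locally V₁ t fun x hx => ?_
  obtain ⟨V, hV, hxV, -⟩ := exists_isAffineOpen_mem_and_subset (x := u (g' x)) (U := ⊤) trivial
  obtain ⟨U, hU, hxU, hUV⟩ := exists_isAffineOpen_mem_and_subset (x := g' x) (U := u ⁻¹ᵁ V) hxV
  obtain ⟨O, hO, hxO, hOV⟩ := exists_isAffineOpen_mem_and_subset (x := u' x) (U := k ⁻¹ᵁ V) (by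
    show k (u' x) ∈ V
    rw [← Scheme.Hom.comp_apply, show u' ≫ k = g' ≫ u from pullback.condition.symm, Scheme.Hom.comp_apply]
    exact hxV)
  let hc : IsPullback g' u' u k := IsPullback.of_hasPullback u k
  let W : (pullback u k).Opens := g' ⁻¹ᵁ U ⊓ u' ⁻¹ᵁ O
  have hW : IsAffineOpen W := by
    haveI : IsAffine _ := hV
    haveI : IsAffine _ := hO
    haveI : IsAffine _ := hU
    exact .of_isIso (Scheme.Hom.isPullback_resLE hc hOV hUV (UY := W) rfl).isoPullback.hom
  have hpo := (isIso_pushoutSection_iff hc hOV hUV (UY := W) rfl).mp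
    (isIso_pushoutSection_of_isAffineOpen hc hOV hUV rfl hV hO hU)
  obtain ⟨gg, hggV, hxgg⟩ := hW.exists_basicOpen_le (V := V₁) ⟨x, hx⟩ (show x ∈ W from ⟨hxU, hxO⟩)
  letI : Algebra Γ(S, V) Γ(X, U) := (u.appLE V U hUV).hom.toAlgebra
  letI : Module Γ(S, V) Γ(F, U) := Module.compHom _ (u.appLE V U hUV).hom
  haveI : IsScalarTower Γ(S, V) Γ(X, U) Γ(F, U) := .of_algebraMap_smul fun _ _ => rfl
  haveI : Algebra.FinitePresentation Γ(S, V) Γ(X, U) := u.finitePresentation_appLE hV hU hUV
  haveI : Module.FinitePresentation Γ(X, U) Γ(F, U) := QCoh.finitePresentation_of_isFP hfp hU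
  haveI : Module.Flat Γ(S, V) Γ(F, U) := (QCoh.flat_appLE_iff u hF hU hV hUV).2 fun y _ => hflat y
  have hI := noKill_of_fibre hV hU hUV hF U₁ h
  letI : Algebra Γ(S, V) Γ(S', O) := (k.appLE V O hOV).hom.toAlgebra
  letI : Algebra Γ(X, U) Γ(pullback u k, W) := (g'.appLE U W inf_le_left).hom.toAlgebra
  letI : Algebra Γ(S', O) Γ(pullback u k, W) := (u'.appLE O W inf_le_right).hom.toAlgebra
  letI : Algebra Γ(S, V) Γ(pullback u k, W) := (u.appLE V U hUV ≫ g'.appLE U W inf_le_left).hom.toAlgebra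
  haveI : IsScalarTower Γ(S, V) Γ(X, U) Γ(pullback u k, W) := .of_algebraMap_eq fun _ => rfl
  haveI : IsScalarTower Γ(S, V) Γ(S', O) Γ(pullback u k, W) := .of_algebraMap_eq fun r => congr($(hpo.w).hom r)
  haveI : Algebra.IsPushout Γ(S, V) Γ(S', O) Γ(X, U) Γ(pullback u k, W) :=
    CommRingCat.isPushout_iff_isPushout.mp hpo.flip
  letI : Module Γ(X, U) Γ(N, W) := Module.compHom _ (g'.appLE U W inf_le_left).hom
  haveI : IsScalarTower Γ(X, U) Γ(pullback u k, W) Γ(N, W) := .of_algebraMap_smul fun _ _ => rfl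
  let l : Γ(F, U) →ₗ[Γ(X, U)] Γ(N, W) :=
    { toFun := QCoh.pullSec g' F inf_le_left
      map_add' := QCoh.pullSec_add g' F inf_le_left
      map_smul' := fun r m => QCoh.pullSec_smul g' F inf_le_left r m }
  have hb : IsBaseChange Γ(pullback u k, W) l :=
    QCoh.isBaseChange_pullback hU g' hW hF inf_le_left (fun _ => rfl) l fun _ => rfl
  letI : Module Γ(S', O) Γ(N, W) := Module.compHom _ (u'.appLE O W inf_le_right).hom
  haveI : IsScalarTower Γ(S', O) Γ(pullback u k, W) Γ(N, W) := .of_algebraMap_smul fun _ _ => rfl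
  have hN : Coh.IsQCoh N := QCoh.isQCoh_pullback g' hF
  letI := QCoh.basicModule (U := W) gg N
  haveI := QCoh.isLocalizedModule_basicRes gg hN hW
  obtain ⟨⟨z, ⟨_, n, rfl⟩⟩, hn⟩ := IsLocalizedModule.surj (Submonoid.powers gg) (QCoh.basicRes gg N)
    (N.presheaf.map (homOfLE hggV).op t)
  obtain ⟨m, hm⟩ := eq_zero_of_noKill Γ(S', O) hI l hb gg z fun b hb' => by
    let c := algebraMap Γ(X, U) Γ(pullback u k, W) b
    letI := QCoh.basicModule (U := W) (gg * c) N
    haveI := QCoh.isLocalizedModule_basicRes (gg * c) hN hW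
    have hle₁ : (pullback u k).basicOpen (gg * c) ≤ (pullback u k).basicOpen gg := by
      rw [Scheme.basicOpen_mul]; exact inf_le_left
    have hle₂ : (pullback u k).basicOpen (gg * c) ≤ V₁ ⊓ g' ⁻¹ᵁ U₁ := by
      rw [Scheme.basicOpen_mul]
      refine inf_le_inf hggV ?_
      show (pullback u k).basicOpen (g'.appLE U W inf_le_left b) ≤ _
      rw [Scheme.basicOpen_appLE]
      exact inf_le_right.trans fun w hw => hb' hw
    have h0 : QCoh.basicRes (gg * c) N z = 0 := by
      have h1 := congrArg (N.presheaf.map (homOfLE hle₁).op) hn.symm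
      change N.presheaf.map (homOfLE hle₁).op (N.presheaf.map (homOfLE ((pullback u k).basicOpen_le gg)).op z) =
        N.presheaf.map (homOfLE hle₁).op
          ((pullback u k).presheaf.map (homOfLE ((pullback u k).basicOpen_le gg)).op (gg ^ n) •
            N.presheaf.map (homOfLE hggV).op t) at h1
      rw [QCoh.map_map, QCoh.map_smul', QCoh.map_map] at h1
      refine h1.trans ?_
      have h2 : N.presheaf.map (homOfLE hle₁ ≫ homOfLE hggV).op t = 0 := by
        have h3 := congrArg (N.presheaf.map (homOfLE hle₂).op) ht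
        rw [map_zero, QCoh.map_map] at h3
        exact h3
      rw [h2, smul_zero]
    obtain ⟨⟨_, m, rfl⟩, hm⟩ := (IsLocalizedModule.eq_zero_iff (Submonoid.powers (gg * c)) (QCoh.basicRes (gg * c) N)).1 h0
    exact ⟨m, m, (by
      show gg ^ m • c ^ m • z = 0
      rw [← mul_smul, ← mul_pow]
      exact hm)⟩
  refine ⟨(pullback u k).basicOpen gg, homOfLE hggV, hxgg, ?_⟩
  refine IsLocalizedModule.smul_injective (QCoh.basicRes gg N) (⟨gg ^ n, n, rfl⟩ : Submonoid.powers gg) ?_
  show (⟨gg ^ n, n, rfl⟩ : Submonoid.powers gg) • _ = (⟨gg ^ n, n, rfl⟩ : Submonoid.powers gg) • _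
  rw [hn, smul_zero]
  exact (IsLocalizedModule.eq_zero_iff (Submonoid.powers gg) (QCoh.basicRes gg N)).2 ⟨⟨gg ^ m, m, rfl⟩, hm⟩

end Groth.Agent.UnivSep5
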