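import Groth.Agent.UnivSep5.NoethScheme
import Mathlib.RingTheory.Flat.Stability

/-!
# Schematically dominant families, chart by chart
-/

set_option autoImplicit false
set_option linter.style.haveILetI false
set_option backward.isDefEq.respectTransparency false
set_option backward.isDefEq.respectTransparency.types false

universe u

open CategoryTheory CategoryTheory.Limits AlgebraicGeometry TopologicalSpace
open scoped TensorProduct

namespace Groth.Agent.UnivSep5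

/-- A section over an open whose pullback along every member vanishes is zero. -/
def Dominant {X : Scheme.{u}} {ι : Type u} {Z : ι → Scheme.{u}} (f : ∀ i, Z i ⟶ X) : Prop :=
  ∀ (V : X.Opens) (t : Γ(X, V)), (∀ i, (f i).app V t = 0) → t = 0

/-- Functions on `U` killed on all the given opens, after inverting a function, are killed by a power of it. -/
def DetectsFun {X : Scheme.{u}} {J : Type u} {Z : J → Scheme.{u}} (f : ∀ j, Z j ⟶ X) (U : X.Opens)
    (W : ∀ j, (Z j).Opens) (hW : ∀ j, W j ≤ f j ⁻¹ᵁ U) : Prop :=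
  ∀ c x : Γ(X, U), (∀ j, ∃ m : ℕ, (f j).appLE U (W j) (hW j) (c ^ m * x) = 0) → ∃ m : ℕ, c ^ m * x = 0

theorem Dominant.detectsFun {X : Scheme.{u}} {ι : Type u} {Z : ι → Scheme.{u}} {f : ∀ i, Z i ⟶ X} (h : Dominant f)
    {U : X.Opens} (hU : IsAffineOpen U) {J : Type u} (a : J → ι) (W : ∀ j, (Z (a j)).Opens)
    (hW : ∀ j, W j ≤ f (a j) ⁻¹ᵁ U) (hcov : ∀ i, ∀ w ∈ f i ⁻¹ᵁ U, ∃ j, ∃ e : a j = i, w ∈ (e ▸ W j : (Z i).Opens)) :
    DetectsFun (fun j => f (a j)) U W hW := by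
  intro c x hcx
  haveI := hU.isLocalization_basicOpen c
  have h0 : algebraMap Γ(X, U) Γ(X, X.basicOpen c) x = 0 := by
    refine h _ _ fun i => ?_
    refine TopCat.Presheaf.section_ext (Z i).sheaf _ _ 0 fun w hw => ?_
    obtain ⟨j, rfl, hwW⟩ := hcov i w (X.basicOpen_le c hw)
    obtain ⟨m, hm⟩ := hcx j
    let O := W j ⊓ f (a j) ⁻¹ᵁ X.basicOpen c
    have hle : O ≤ f (a j) ⁻¹ᵁ X.basicOpen c := inf_le_right
    have hle' : O ≤ f (a j) ⁻¹ᵁ U := inf_le_left.trans (hW j)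
    have hu : IsUnit ((f (a j)).appLE U O hle' c) := by
      have h1 := (RingedSpace.isUnit_res_basicOpen X.toRingedSpace c).map ((f (a j)).appLE (X.basicOpen c) O hle).hom
      rw [show ((f (a j)).appLE U O hle' c) =
        (f (a j)).appLE (X.basicOpen c) O hle (X.presheaf.map (homOfLE (X.basicOpen_le c)).op c) from
        congr($((Scheme.Hom.map_appLE (f (a j)) hle (homOfLE (X.basicOpen_le c)).op)).hom c).symm]
      exact h1
    have hx0 : (f (a j)).appLE U O hle' x = 0 := by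
      have hm' : (f (a j)).appLE U O hle' (c ^ m * x) = 0 := by
        rw [show (f (a j)).appLE U O hle' (c ^ m * x) =
          (Z (a j)).presheaf.map (homOfLE (inf_le_left : O ≤ W j)).op ((f (a j)).appLE U (W j) (hW j) (c ^ m * x)) from
          congr($((Scheme.Hom.appLE_map (f (a j)) (hW j) (homOfLE (inf_le_left : O ≤ W j)).op)).hom (c ^ m * x)).symm,
          hm, map_zero]
      rw [map_mul, map_pow, (hu.pow m).mul_right_eq_zero] at hm'
      exact hm'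
    refine ((Z (a j)).presheaf.germ_res_apply (homOfLE hle) w ⟨hwW, hw⟩ _).symm.trans ?_
    refine (congrArg _ ?_).trans ((map_zero _).trans (map_zero _).symm)
    refine Eq.trans ?_ hx0
    exact congr($((Scheme.Hom.map_appLE (f (a j)) hle (homOfLE (X.basicOpen_le c)).op)).hom x)
  obtain ⟨⟨_, M, rfl⟩, hM⟩ := (IsLocalization.map_eq_zero_iff (Submonoid.powers c) Γ(X, X.basicOpen c) x).1 h0
  exact ⟨M, hM⟩

theorem dominant_of_detectsFun {X : Scheme.{u}} {ι : Type u} {Z : ι → Scheme.{u}} {f : ∀ i, Z i ⟶ X}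
    (h : ∀ x : X, ∃ (U : X.Opens) (J : Type u) (a : J → ι) (W : ∀ j, (Z (a j)).Opens)
      (hW : ∀ j, W j ≤ f (a j) ⁻¹ᵁ U), IsAffineOpen U ∧ x ∈ U ∧ (∀ j, IsAffineOpen (W j)) ∧
        DetectsFun (fun j => f (a j)) U W hW) :
    Dominant f := by
  intro V t ht
  refine TopCat.Presheaf.section_ext X.sheaf V t 0 fun x hx => ?_
  obtain ⟨U, J, a, W, hW, hU, hxU, hWaff, hdet⟩ := h x
  obtain ⟨g, hgV, hxg⟩ := hU.exists_basicOpen_le (V := V) ⟨x, hx⟩ hxU
  haveI := hU.isLocalization_basicOpen g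
  obtain ⟨⟨z, ⟨_, n, rfl⟩⟩, hnz⟩ := IsLocalization.surj (M := Submonoid.powers g) (X.presheaf.map (homOfLE hgV).op t)
  obtain ⟨M, hM⟩ := hdet g z fun j => by
    let ψ := (f (a j)).appLE U (W j) (hW j)
    haveI := (hWaff j).isLocalization_basicOpen (ψ g)
    have hD : (Z (a j)).basicOpen (ψ g) ≤ f (a j) ⁻¹ᵁ X.basicOpen g := by
      rw [Scheme.basicOpen_appLE]
      exact inf_le_right
    have hres : ∀ y, algebraMap Γ(Z (a j), W j) Γ(Z (a j), (Z (a j)).basicOpen (ψ g)) (ψ y) =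
        (f (a j)).appLE _ _ hD (algebraMap Γ(X, U) Γ(X, X.basicOpen g) y) := fun y => by
      show (Z (a j)).presheaf.map (homOfLE ((Z (a j)).basicOpen_le _)).op (ψ y) =
        (f (a j)).appLE _ _ hD (X.presheaf.map (homOfLE (X.basicOpen_le g)).op y)
      simp only [ψ, ← ConcreteCategory.comp_apply, Scheme.Hom.appLE_map, Scheme.Hom.map_appLE]
    have hzero : algebraMap Γ(Z (a j), W j) Γ(Z (a j), (Z (a j)).basicOpen (ψ g)) (ψ z) = 0 := by
      rw [hres, ← hnz, map_mul]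
      have : (f (a j)).appLE _ _ hD (X.presheaf.map (homOfLE hgV).op t) = 0 := by
        rw [← ConcreteCategory.comp_apply, Scheme.Hom.map_appLE, Scheme.Hom.appLE, ConcreteCategory.comp_apply, ht]
        exact map_zero _
      rw [this, zero_mul]
    obtain ⟨⟨_, m, rfl⟩, hm⟩ := (IsLocalization.map_eq_zero_iff (Submonoid.powers (ψ g)) _ (ψ z)).1 hzero
    exact ⟨m, by rw [map_mul, map_pow]; exact hm⟩
  have ha : algebraMap Γ(X, U) Γ(X, X.basicOpen g) z = 0 :=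
    (IsLocalization.map_eq_zero_iff (Submonoid.powers g) _ z).2 ⟨⟨g ^ M, M, rfl⟩, hM⟩
  rw [ha] at hnz
  have h0 := ((IsLocalization.map_units _ (⟨g ^ n, n, rfl⟩ : Submonoid.powers g)).mul_left_eq_zero).1 hnz
  refine (X.presheaf.germ_res_apply (homOfLE hgV) x hxg t).symm.trans ?_
  exact (congrArg _ h0).trans ((map_zero _).trans (map_zero _).symm)

variable {X S X' T : Scheme.{u}} {p : X ⟶ S} {u' : X' ⟶ T} {g' : X' ⟶ X} {k : T ⟶ S}

/-- Detection of functions on a chart of a base change is detection after base change of the ring of the base. -/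
theorem detectsAt_iff_sections_fun (hc : IsPullback g' u' p k) {J : Type u} {Z Z' : J → Scheme.{u}}
    (f : ∀ j, Z j ⟶ X) (a : ∀ j, Z' j ⟶ Z j) (b : ∀ j, Z' j ⟶ T) (hZ : ∀ j, IsPullback (a j) (b j) (f j ≫ p) k)
    (F : ∀ j, Z' j ⟶ X') (hF₁ : ∀ j, F j ≫ g' = a j ≫ f j) (hF₂ : ∀ j, F j ≫ u' = b j)
    {V : S.Opens} (hV : IsAffineOpen V) {U : X.Opens} (hU : IsAffineOpen U) (hUV : U ≤ p ⁻¹ᵁ V)
    (W : ∀ j, (Z j).Opens) (hW : ∀ j, W j ≤ f j ⁻¹ᵁ U) (hWaff : ∀ j, IsAffineOpen (W j))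
    {O : T.Opens} (hO : IsAffineOpen O) (hOV : O ≤ k ⁻¹ᵁ V) :
    IsAffineOpen (g' ⁻¹ᵁ U ⊓ u' ⁻¹ᵁ O) ∧ (∀ j, IsAffineOpen (a j ⁻¹ᵁ W j ⊓ b j ⁻¹ᵁ O)) ∧
      ∃ hle : ∀ j, a j ⁻¹ᵁ W j ⊓ b j ⁻¹ᵁ O ≤ F j ⁻¹ᵁ (g' ⁻¹ᵁ U ⊓ u' ⁻¹ᵁ O),
      ((letI := (p.appLE V U hUV).hom.toAlgebra
        letI := (k.appLE V O hOV).hom.toAlgebra
        letI : ∀ j, Algebra Γ(X, U) Γ(Z j, W j) := fun j => ((f j).appLE U (W j) (hW j)).hom.toAlgebra
        DetectsAt Γ(S, V) (fun j => Algebra.linearMap Γ(X, U) Γ(Z j, W j)) Γ(T, O)) ↔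
        DetectsFun F (g' ⁻¹ᵁ U ⊓ u' ⁻¹ᵁ O) (fun j => a j ⁻¹ᵁ W j ⊓ b j ⁻¹ᵁ O) hle) := by
  let Y : X'.Opens := g' ⁻¹ᵁ U ⊓ u' ⁻¹ᵁ O
  let Y' : ∀ j, (Z' j).Opens := fun j => a j ⁻¹ᵁ W j ⊓ b j ⁻¹ᵁ O
  have hWV : ∀ j, W j ≤ (f j ≫ p) ⁻¹ᵁ V := fun j z hz => hUV (hW j hz)
  have hY : IsAffineOpen Y := by
    haveI : IsAffine _ := hV
    haveI : IsAffine _ := hO
    haveI : IsAffine _ := hU
    exact .of_isIso (Scheme.Hom.isPullback_resLE hc hOV hUV (UY := Y) rfl).isoPullback.hom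
  have hY' : ∀ j, IsAffineOpen (Y' j) := fun j => by
    haveI : IsAffine _ := hV
    haveI : IsAffine _ := hO
    haveI : IsAffine _ := hWaff j
    exact .of_isIso (Scheme.Hom.isPullback_resLE (hZ j) hOV (hWV j) (UY := Y' j) rfl).isoPullback.hom
  have hle : ∀ j, Y' j ≤ F j ⁻¹ᵁ Y := fun j z hz => by
    refine ⟨?_, ?_⟩
    · show g' (F j z) ∈ U
      rw [← Scheme.Hom.comp_apply, hF₁, Scheme.Hom.comp_apply]
      exact hW j hz.1
    · show u' (F j z) ∈ O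
      rw [← Scheme.Hom.comp_apply, hF₂]
      exact hz.2
  refine ⟨hY, hY', hle, ?_⟩
  have hpo := (isIso_pushoutSection_iff hc hOV hUV (UY := Y) rfl).mp
    (isIso_pushoutSection_of_isAffineOpen hc hOV hUV rfl hV hO hU)
  letI : Algebra Γ(S, V) Γ(X, U) := (p.appLE V U hUV).hom.toAlgebra
  letI : Algebra Γ(S, V) Γ(T, O) := (k.appLE V O hOV).hom.toAlgebra
  letI : Algebra Γ(X, U) Γ(X', Y) := (g'.appLE U Y inf_le_left).hom.toAlgebra
  letI : Algebra Γ(T, O) Γ(X', Y) := (u'.appLE O Y inf_le_right).hom.toAlgebra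
  letI : Algebra Γ(S, V) Γ(X', Y) := (p.appLE V U hUV ≫ g'.appLE U Y inf_le_left).hom.toAlgebra
  haveI : IsScalarTower Γ(S, V) Γ(X, U) Γ(X', Y) := .of_algebraMap_eq fun _ => rfl
  haveI : IsScalarTower Γ(S, V) Γ(T, O) Γ(X', Y) := .of_algebraMap_eq fun r => congr($(hpo.w).hom r)
  haveI : Algebra.IsPushout Γ(S, V) Γ(X, U) Γ(T, O) Γ(X', Y) :=
    CommRingCat.isPushout_iff_isPushout.mp hpo
  letI algC : ∀ j, Algebra Γ(X, U) Γ(Z j, W j) := fun j => ((f j).appLE U (W j) (hW j)).hom.toAlgebra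
  letI : ∀ j, Algebra Γ(X', Y) Γ(Z' j, Y' j) := fun j => ((F j).appLE Y (Y' j) (hle j)).hom.toAlgebra
  letI : ∀ j, Algebra Γ(X, U) Γ(Z' j, Y' j) := fun j =>
    ((f j).appLE U (W j) (hW j) ≫ (a j).appLE (W j) (Y' j) inf_le_left).hom.toAlgebra
  have hcomp : ∀ j, (f j).appLE U (W j) (hW j) ≫ (a j).appLE (W j) (Y' j) inf_le_left =
      g'.appLE U Y inf_le_left ≫ (F j).appLE Y (Y' j) (hle j) := fun j => by
    simp only [Scheme.Hom.appLE_comp_appLE, hF₁]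
  haveI : ∀ j, IsScalarTower Γ(X, U) Γ(X', Y) Γ(Z' j, Y' j) := fun j =>
    .of_algebraMap_eq fun r => congr($(hcomp j).hom r)
  let jN : ∀ j, Γ(Z j, W j) →ₗ[Γ(X, U)] Γ(Z' j, Y' j) := fun j =>
    AlgHom.toLinearMap { ((a j).appLE (W j) (Y' j) inf_le_left).hom with commutes' := fun _ => rfl }
  have hjN : ∀ j, IsBaseChange Γ(X', Y) (jN j) := fun j => by
    have hpj := (isIso_pushoutSection_iff (hZ j) hOV (hWV j) (UY := Y' j) rfl).mp
      (isIso_pushoutSection_of_isAffineOpen (hZ j) hOV (hWV j) rfl hV hO (hWaff j))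
    letI : Algebra Γ(Z j, W j) Γ(Z' j, Y' j) := ((a j).appLE (W j) (Y' j) inf_le_left).hom.toAlgebra
    letI : Algebra Γ(T, O) Γ(Z' j, Y' j) := ((b j).appLE O (Y' j) inf_le_right).hom.toAlgebra
    letI : Algebra Γ(S, V) Γ(Z j, W j) := ((f j ≫ p).appLE V (W j) (hWV j)).hom.toAlgebra
    letI : Algebra Γ(S, V) Γ(Z' j, Y' j) :=
      ((f j ≫ p).appLE V (W j) (hWV j) ≫ (a j).appLE (W j) (Y' j) inf_le_left).hom.toAlgebra
    haveI : IsScalarTower Γ(S, V) Γ(Z j, W j) Γ(Z' j, Y' j) := .of_algebraMap_eq fun _ => rfl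
    haveI : IsScalarTower Γ(S, V) Γ(T, O) Γ(Z' j, Y' j) := .of_algebraMap_eq fun r => congr($(hpj.w).hom r)
    haveI : Algebra.IsPushout Γ(S, V) Γ(Z j, W j) Γ(T, O) Γ(Z' j, Y' j) :=
      CommRingCat.isPushout_iff_isPushout.mp hpj
    haveI : IsScalarTower Γ(X, U) Γ(Z j, W j) Γ(Z' j, Y' j) := .of_algebraMap_eq fun _ => rfl
    haveI : IsScalarTower Γ(S, V) Γ(X, U) Γ(Z j, W j) := .of_algebraMap_eq fun r =>
      congr($(Scheme.Hom.appLE_comp_appLE (f j) p V U (W j) hUV (hW j)).hom r).symm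
    haveI : IsScalarTower Γ(T, O) Γ(X', Y) Γ(Z' j, Y' j) := .of_algebraMap_eq fun r => by
      show (b j).appLE O (Y' j) inf_le_right r = (F j).appLE Y (Y' j) (hle j) (u'.appLE O Y inf_le_right r)
      simp only [← ConcreteCategory.comp_apply, Scheme.Hom.appLE_comp_appLE, hF₂]
    haveI : IsScalarTower Γ(S, V) Γ(X', Y) Γ(Z' j, Y' j) := .of_algebraMap_eq fun r => by
      rw [IsScalarTower.algebraMap_apply Γ(S, V) Γ(T, O) Γ(Z' j, Y' j),
        IsScalarTower.algebraMap_apply Γ(S, V) Γ(T, O) Γ(X', Y),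
        ← IsScalarTower.algebraMap_apply Γ(T, O) Γ(X', Y) Γ(Z' j, Y' j)]
    exact (Algebra.IsPushout.symm ((Algebra.IsPushout.comp_iff Γ(S, V) Γ(X, U) Γ(T, O) Γ(X', Y)
      (T := Γ(Z j, W j)) (T' := Γ(Z' j, Y' j))).1 inferInstance)).out
  refine (detectsAt_iff (IsBaseChange.linearMap Γ(X, U) Γ(X', Y)) hjN
    (fun j => Algebra.linearMap Γ(X', Y) Γ(Z' j, Y' j)) (fun j x => ?_)).trans ?_
  · exact congr($(hcomp j).hom x).symm
  · constructor <;> intro h c x hx <;> refine h c x fun j => ?_ <;> obtain ⟨m, hm⟩ := hx j <;> refine ⟨m, ?_⟩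
    · rw [Algebra.linearMap_apply, Algebra.smul_def]
      exact (map_mul (algebraMap Γ(X', Y) Γ(Z' j, Y' j)) _ _).symm.trans hm
    · rw [Algebra.linearMap_apply, Algebra.smul_def] at hm
      exact (map_mul (algebraMap Γ(X', Y) Γ(Z' j, Y' j)) _ _).trans hm

/-- A family of schemes flat over the base and schematically dominant on every fibre is universally
schematically dominant. -/
theorem dominant_baseChange [IsLocallyNoetherian X] {ι : Type u} {Z : ι → Scheme.{u}} (f : ∀ i, Z i ⟶ X)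
    [∀ i, Flat (f i ≫ p)]
    (F₀ : ∀ (s : S) i, pullback (f i ≫ p) (S.fromSpecResidueField s) ⟶ pullback p (S.fromSpecResidueField s))
    (hF₀₁ : ∀ s i, F₀ s i ≫ pullback.fst _ _ = pullback.fst _ _ ≫ f i)
    (hF₀₂ : ∀ s i, F₀ s i ≫ pullback.snd _ _ = pullback.snd _ _)
    (h : ∀ s, Dominant (F₀ s)) {S' : Scheme.{u}} (k : S' ⟶ S)
    (F : ∀ i, pullback (f i ≫ p) k ⟶ pullback p k) (hF₁ : ∀ i, F i ≫ pullback.fst _ _ = pullback.fst _ _ ≫ f i)
    (hF₂ : ∀ i, F i ≫ pullback.snd _ _ = pullback.snd _ _) : Dominant F := by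
  refine dominant_of_detectsFun fun x => ?_
  obtain ⟨V, hV, hxV, -⟩ := exists_isAffineOpen_mem_and_subset (x := p (pullback.fst p k x)) (U := ⊤) trivial
  obtain ⟨U, hU, hxU, hUV⟩ := exists_isAffineOpen_mem_and_subset (x := pullback.fst p k x) (U := p ⁻¹ᵁ V) hxV
  obtain ⟨O, hO, hxO, hOV⟩ := exists_isAffineOpen_mem_and_subset (x := pullback.snd p k x) (U := k ⁻¹ᵁ V) (by
    show k (pullback.snd p k x) ∈ V
    rw [← Scheme.Hom.comp_apply, show pullback.snd p k ≫ k = pullback.fst p k ≫ p from pullback.condition.symm,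
      Scheme.Hom.comp_apply]
    exact hxV)
  let J := (i : ι) × {W : (Z i).Opens // IsAffineOpen W ∧ W ≤ f i ⁻¹ᵁ U}
  let W : ∀ j : J, (Z j.1).Opens := fun j => j.2.1
  have hW : ∀ j : J, W j ≤ f j.1 ⁻¹ᵁ U := fun j => j.2.2.2
  have hWaff : ∀ j : J, IsAffineOpen (W j) := fun j => j.2.2.1
  letI : Algebra Γ(S, V) Γ(X, U) := (p.appLE V U hUV).hom.toAlgebra
  letI : Algebra Γ(S, V) Γ(S', O) := (k.appLE V O hOV).hom.toAlgebra
  letI : ∀ j : J, Algebra Γ(X, U) Γ(Z j.1, W j) := fun j => ((f j.1).appLE U (W j) (hW j)).hom.toAlgebra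
  have hfib : ∀ (q : Ideal Γ(S, V)) [q.IsPrime],
      DetectsAt Γ(S, V) (fun j : J => Algebra.linearMap Γ(X, U) Γ(Z j.1, W j)) q.ResidueField := by
    intro q hq
    let s : S := hV.fromSpec ⟨q, hq⟩
    have hsV : s ∈ V := hV.range_fromSpec.le ⟨⟨q, hq⟩, rfl⟩
    let T := Spec (S.residueField s)
    let κ := S.fromSpecResidueField s
    have hkV : (⊤ : T.Opens) ≤ κ ⁻¹ᵁ V := fun z _ => by
      show κ z ∈ V
      have : κ z ∈ Set.range κ := ⟨z, rfl⟩
      rw [Scheme.range_fromSpecResidueField, Set.mem_singleton_iff] at this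
      rw [this]
      exact hsV
    letI : Algebra Γ(S, V) Γ(T, ⊤) := (κ.appLE V ⊤ hkV).hom.toAlgebra
    obtain ⟨hY, hY', hle, hiff⟩ := detectsAt_iff_sections_fun (IsPullback.of_hasPullback p κ)
      (fun j : J => f j.1) (fun j => pullback.fst (f j.1 ≫ p) κ) (fun j => pullback.snd (f j.1 ≫ p) κ)
      (fun j => IsPullback.of_hasPullback _ _) (fun j => F₀ s j.1) (fun j => hF₀₁ s j.1) (fun j => hF₀₂ s j.1)
      hV hU hUV W hW hWaff (isAffineOpen_top T) hkV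
    exact detectsAt_residueField_of_top hV q hkV (hiff.2 ((h s).detectsFun hY (fun j : J => j.1) _ hle
      fun i w hw => by
        have hw' : pullback.fst (f i ≫ p) κ w ∈ f i ⁻¹ᵁ U := by
          show f i (pullback.fst (f i ≫ p) κ w) ∈ U
          rw [← Scheme.Hom.comp_apply, ← hF₀₁, Scheme.Hom.comp_apply]
          exact hw.1
        obtain ⟨W₀, hW₀, hwW, hle₀⟩ := exists_isAffineOpen_mem_and_subset hw'
        exact ⟨⟨i, W₀, hW₀, hle₀⟩, rfl, ⟨hwW, trivial⟩⟩))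
  haveI : IsNoetherianRing Γ(X, U) := IsLocallyNoetherian.component_noetherian ⟨U, hU⟩
  letI : ∀ j : J, Module Γ(S, V) Γ(Z j.1, W j) := fun j =>
    Module.compHom _ (algebraMap Γ(S, V) Γ(X, U))
  haveI : ∀ j : J, IsScalarTower Γ(S, V) Γ(X, U) Γ(Z j.1, W j) := fun j => .of_algebraMap_smul fun _ _ => rfl
  haveI : ∀ j : J, Module.Flat Γ(S, V) Γ(Z j.1, W j) := fun j => by
    have hle : W j ≤ (f j.1 ≫ p) ⁻¹ᵁ V := fun z hz => hUV (hW j hz)
    letI : Algebra Γ(S, V) Γ(Z j.1, W j) := ((f j.1 ≫ p).appLE V (W j) hle).hom.toAlgebra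
    have h1 :=
      RingHom.flat_algebraMap_iff.1 ((f j.1 ≫ p).flat_appLE hV (hWaff j) hle)
    convert h1 using 1
    refine Module.ext' _ _ fun r z => ?_
    show (f j.1).appLE U (W j) (hW j) (p.appLE V U hUV r) * z = (f j.1 ≫ p).appLE V (W j) hle r * z
    rw [← Scheme.Hom.appLE_comp_appLE (f j.1) p V U (W j) hUV (hW j), ConcreteCategory.comp_apply]
  obtain ⟨hY, hY', hle, hiff⟩ := detectsAt_iff_sections_fun (IsPullback.of_hasPullback p k)
      (fun j : J => f j.1) (fun j => pullback.fst (f j.1 ≫ p) k) (fun j => pullback.snd (f j.1 ≫ p) k)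
      (fun j => IsPullback.of_hasPullback _ _) (fun j => F j.1) (fun j => hF₁ j.1) (fun j => hF₂ j.1)
      hV hU hUV W hW hWaff hO hOV
  exact ⟨_, J, fun j => j.1, _, hle, hY, ⟨hxU, hxO⟩, hY', hiff.1 (detectsAt_of_fibres hfib Γ(S', O))⟩

end Groth.Agent.UnivSep5
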