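import Groth.Agent.UnivSep5.Separating
import Groth.Agent.QCoh.FT
import Mathlib.AlgebraicGeometry.Fiber
import Mathlib.AlgebraicGeometry.Noetherian

/-!
# Families separating on every fibre are universally separating
-/

set_option autoImplicit false
set_option linter.style.haveILetI false
set_option backward.isDefEq.respectTransparency false
set_option backward.isDefEq.respectTransparency.types false

universe u

open CategoryTheory CategoryTheory.Limits AlgebraicGeometry TopologicalSpace
open scoped TensorProduct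

namespace Groth.Agent.UnivSep5

/-- Detection descends along a split injection of base rings. -/
theorem DetectsAt.descend {A B : Type u} [CommRing A] [CommRing B] [Algebra A B] {M : Type u} [AddCommGroup M]
    [Module B M] {ι : Type u} {N : ι → Type u} [∀ i, AddCommGroup (N i)] [∀ i, Module B (N i)]
    {v : ∀ i, M →ₗ[B] N i} {A₁ A' : Type u} [CommRing A₁] [Algebra A A₁] [CommRing A'] [Algebra A A']
    (f : A₁ →ₐ[A] A') (r : A' →ₗ[A] A₁) (hr : r ∘ₗ f.toLinearMap = LinearMap.id) (h : DetectsAt A v A') :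
    DetectsAt A v A₁ := by
  let ψ := Algebra.TensorProduct.map (AlgHom.id B B) f
  let ψX : ∀ (X : Type u) [AddCommGroup X] [Module B X], (B ⊗[A] A₁) ⊗[B] X →ₗ[B] (B ⊗[A] A') ⊗[B] X :=
    fun X _ _ => ψ.toLinearMap.rTensor X
  have hsm : ∀ (X : Type u) [AddCommGroup X] [Module B X] (c : B ⊗[A] A₁) (y : (B ⊗[A] A₁) ⊗[B] X),
      ψX X (c • y) = ψ c • ψX X y := by
    intro X _ _ c y
    induction y using TensorProduct.induction_on with
    | zero => simp
    | tmul d n =>
      show ψ (c * d) ⊗ₜ n = _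
      rw [map_mul]
      rfl
    | add a d ha hd => simp only [smul_add, map_add, ha, hd]
  have hinj : Function.Injective (ψX M) := by
    refine Function.LeftInverse.injective (g := (TensorProduct.AlgebraTensorModule.map (LinearMap.id : B →ₗ[B] B) r).rTensor M) ?_
    intro y
    induction y using TensorProduct.induction_on with
    | zero => simp
    | add a d ha hd => simp only [map_add, ha, hd]
    | tmul d n =>
      show (TensorProduct.AlgebraTensorModule.map (LinearMap.id : B →ₗ[B] B) r (ψ d)) ⊗ₜ[B] n = d ⊗ₜ[B] n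
      congr 1
      induction d using TensorProduct.induction_on with
      | zero => simp
      | add a d ha hd => simp only [map_add, ha, hd]
      | tmul b a => exact congrArg (b ⊗ₜ[A] ·) (LinearMap.congr_fun hr a)
  intro c z hz
  obtain ⟨m, hm⟩ := h (ψ c) (ψX M z) fun i => by
    obtain ⟨m, hm⟩ := hz i
    refine ⟨m, ?_⟩
    have hnat : (v i).baseChange (B ⊗[A] A') (ψX M z) = ψX (N i) ((v i).baseChange (B ⊗[A] A₁) z) := by
      clear hm hz
      induction z using TensorProduct.induction_on with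
      | zero => simp
      | tmul d n => rfl
      | add a d ha hd => simp only [map_add, ha, hd]
    rw [hnat, ← map_pow, ← hsm, hm, map_zero]
  exact ⟨m, hinj (by rw [hsm, map_pow, hm, map_zero])⟩

variable {X S : Scheme.{u}} {p : X ⟶ S} {F : X.Modules} {ι : Type u} {G : ι → X.Modules} {v : ∀ i, F ⟶ G i}

/-- Passage from sections of the spectrum of the residue field of a point to the residue field of its prime. -/
theorem detectsAt_residueField_of_top {V : S.Opens} (hV : IsAffineOpen V) {B : Type u} [CommRing B]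
    [Algebra Γ(S, V) B] {M : Type u} [AddCommGroup M] [Module B M] {J : Type u} {N : J → Type u}
    [∀ i, AddCommGroup (N i)] [∀ i, Module B (N i)] {w : ∀ i, M →ₗ[B] N i} (q : Ideal Γ(S, V)) [hq : q.IsPrime]
    (hkV : (⊤ : (Spec (S.residueField (hV.fromSpec ⟨q, hq⟩))).Opens) ≤
      (S.fromSpecResidueField (hV.fromSpec ⟨q, hq⟩)) ⁻¹ᵁ V)
    (h : letI := ((S.fromSpecResidueField (hV.fromSpec ⟨q, hq⟩)).appLE V ⊤ hkV).hom.toAlgebra
      DetectsAt Γ(S, V) w Γ(Spec (S.residueField (hV.fromSpec ⟨q, hq⟩)), ⊤)) :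
    DetectsAt Γ(S, V) w q.ResidueField := by
  let s : S := hV.fromSpec ⟨q, hq⟩
  let T := Spec (S.residueField s)
  let k := S.fromSpecResidueField s
  let K := Γ(T, ⊤)
  letI : Algebra Γ(S, V) K := (k.appLE V ⊤ hkV).hom.toAlgebra
  have hK : IsField K :=
    (Scheme.ΓSpecIso (S.residueField s)).commRingCatIsoToRingEquiv.toMulEquiv.isField (Field.toIsField _)
  have hker : ∀ r, algebraMap Γ(S, V) K r = 0 ↔ r ∈ q := by
    intro r
    have h1 : s ∈ S.basicOpen r ↔ r ∉ q := by
      have := hV.fromSpec_preimage_basicOpen r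
      exact (iff_of_eq (congrArg (fun O : (Spec Γ(S, V)).Opens => (⟨q, hq⟩ : PrimeSpectrum Γ(S, V)) ∈ O) this))
    constructor
    · intro h0
      by_contra hr
      have hm : (IsLocalRing.closedPoint (S.residueField s) : T) ∈ T.basicOpen (k.appLE V ⊤ hkV r) := by
        rw [Scheme.basicOpen_appLE]
        refine ⟨trivial, ?_⟩
        show k _ ∈ S.basicOpen r
        rw [Scheme.fromSpecResidueField_apply]
        exact h1.2 hr
      rw [show k.appLE V ⊤ hkV r = 0 from h0, Scheme.basicOpen_zero] at hm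
      exact hm
    · intro hr
      by_contra h0
      obtain ⟨b, hb⟩ := hK.mul_inv_cancel h0
      have hu : IsUnit (k.appLE V ⊤ hkV r) := IsUnit.of_mul_eq_one _ hb
      have hm : (IsLocalRing.closedPoint (S.residueField s) : T) ∈ T.basicOpen (k.appLE V ⊤ hkV r) := by
        rw [Scheme.basicOpen_of_isUnit _ hu]
        trivial
      rw [Scheme.basicOpen_appLE] at hm
      have h2 : k _ ∈ S.basicOpen r := hm.2
      rw [Scheme.fromSpecResidueField_apply] at h2
      exact h1.1 h2 hr
  let ψ : q.ResidueField →ₐ[Γ(S, V)] K :=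
    Ideal.ResidueField.liftₐ q (Algebra.ofId Γ(S, V) K) (fun r hr => (hker r).2 hr) fun r hr => by
      obtain ⟨b, hb⟩ := hK.mul_inv_cancel (fun h0 => hr ((hker r).1 h0))
      exact IsUnit.of_mul_eq_one _ hb
  haveI : Nontrivial K := ⟨hK.exists_pair_ne⟩
  letI : Algebra q.ResidueField K := ψ.toRingHom.toAlgebra
  haveI : IsScalarTower Γ(S, V) q.ResidueField K := .of_algebraMap_eq fun c => (ψ.commutes c).symm
  obtain ⟨r₀, hr₀⟩ := (Algebra.linearMap q.ResidueField K).exists_leftInverse_of_injective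
    (LinearMap.ker_eq_bot.2 ψ.toRingHom.injective)
  exact h.descend ψ (r₀.restrictScalars Γ(S, V)) (LinearMap.ext fun c => LinearMap.congr_fun hr₀ c)


theorem detectsAt_residueField (hF : Coh.IsQCoh F) (hG : ∀ i, Coh.IsQCoh (G i))
    (h : ∀ s : S, Separating fun i => (Scheme.Modules.pullback (pullback.fst p (S.fromSpecResidueField s))).map (v i))
    {V : S.Opens} (hV : IsAffineOpen V) {U : X.Opens} (hU : IsAffineOpen U) (hUV : U ≤ p ⁻¹ᵁ V) :
    letI := (p.appLE V U hUV).hom.toAlgebra
    ∀ (q : Ideal Γ(S, V)) [q.IsPrime], DetectsAt Γ(S, V) (fun i => QCoh.appLin (v i) U) q.ResidueField := by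
  letI : Algebra Γ(S, V) Γ(X, U) := (p.appLE V U hUV).hom.toAlgebra
  intro q hq
  let s : S := hV.fromSpec ⟨q, hq⟩
  have hsV : s ∈ V := hV.range_fromSpec.le ⟨⟨q, hq⟩, rfl⟩
  let T := Spec (S.residueField s)
  let k := S.fromSpecResidueField s
  have hkV : (⊤ : T.Opens) ≤ k ⁻¹ᵁ V := fun z _ => by
    show k z ∈ V
    have : k z ∈ Set.range k := ⟨z, rfl⟩
    rw [Scheme.range_fromSpecResidueField, Set.mem_singleton_iff] at this
    rw [this]
    exact hsV
  have hT : IsAffineOpen (⊤ : T.Opens) := isAffineOpen_top T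
  have hW : IsAffineOpen (pullback.fst p k ⁻¹ᵁ U ⊓ pullback.snd p k ⁻¹ᵁ ⊤) := by
    haveI : IsAffine _ := hV
    haveI : IsAffine _ := hT
    haveI : IsAffine _ := hU
    exact .of_isIso (Scheme.Hom.isPullback_resLE (IsPullback.of_hasPullback p k) hkV hUV
      (UY := pullback.fst p k ⁻¹ᵁ U ⊓ pullback.snd p k ⁻¹ᵁ ⊤) rfl).isoPullback.hom
  let K := Γ(T, ⊤)
  letI : Algebra Γ(S, V) K := (k.appLE V ⊤ hkV).hom.toAlgebra
  have hdet : DetectsAt Γ(S, V) (fun i => QCoh.appLin (v i) U) K :=
    (detectsAt_iff_sections (IsPullback.of_hasPullback p k) hF hG v hV hU hUV hT hkV).2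
      ⟨hW, (h s).detects (QCoh.isQCoh_pullback _ hF) (fun i => QCoh.isQCoh_pullback _ (hG i)) hW⟩
  exact detectsAt_residueField_of_top hV q hkV hdet

/-- A family separating on every fibre, with coherent source and flat targets, is universally separating. -/
theorem separating_baseChange [IsLocallyNoetherian X] (hF : Coh.IsCoh F) (hG : ∀ i, Coh.IsQCoh (G i))
    (hflat : ∀ i, FlatMod.IsFlatOver p (G i))
    (h : ∀ s : S, Separating fun i => (Scheme.Modules.pullback (pullback.fst p (S.fromSpecResidueField s))).map (v i))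
    {S' : Scheme.{u}} (k : S' ⟶ S) :
    Separating fun i => (Scheme.Modules.pullback (pullback.fst p k)).map (v i) := by
  refine separating_of_detects (QCoh.isQCoh_pullback _ hF.1) (fun i => QCoh.isQCoh_pullback _ (hG i)) fun x => ?_
  let g' := pullback.fst p k
  let u' := pullback.snd p k
  obtain ⟨V, hV, hxV, -⟩ := exists_isAffineOpen_mem_and_subset (x := p (g' x)) (U := ⊤) trivial
  obtain ⟨U, hU, hxU, hUV⟩ := exists_isAffineOpen_mem_and_subset (x := g' x) (U := p ⁻¹ᵁ V) hxV
  obtain ⟨O, hO, hxO, hOV⟩ := exists_isAffineOpen_mem_and_subset (x := u' x) (U := k ⁻¹ᵁ V) (by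
    show k (u' x) ∈ V
    rw [← Scheme.Hom.comp_apply, show u' ≫ k = g' ≫ p from pullback.condition.symm, Scheme.Hom.comp_apply]
    exact hxV)
  letI : Algebra Γ(S, V) Γ(X, U) := (p.appLE V U hUV).hom.toAlgebra
  letI : Algebra Γ(S, V) Γ(S', O) := (k.appLE V O hOV).hom.toAlgebra
  letI : ∀ i, Module Γ(S, V) Γ(G i, U) := fun i => Module.compHom _ (p.appLE V U hUV).hom
  haveI : ∀ i, IsScalarTower Γ(S, V) Γ(X, U) Γ(G i, U) := fun i => .of_algebraMap_smul fun _ _ => rfl
  haveI : ∀ i, Module.Flat Γ(S, V) Γ(G i, U) := fun i =>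
    (QCoh.flat_appLE_iff p (hG i) hU hV hUV).2 fun y _ => hflat i y
  haveI : IsNoetherianRing Γ(X, U) := IsLocallyNoetherian.component_noetherian ⟨U, hU⟩
  haveI : Module.Finite Γ(X, U) Γ(F, U) := QCoh.finite_of_isFT hF.1 hF.2 hU
  obtain ⟨hW, hdet⟩ := (detectsAt_iff_sections (IsPullback.of_hasPullback p k) hF.1 hG v hV hU hUV hO hOV).1
    (detectsAt_of_fibres (detectsAt_residueField hF.1 hG h hV hU hUV) Γ(S', O))
  exact ⟨_, hW, ⟨hxU, hxO⟩, hdet⟩

end Groth.Agent.UnivSep5
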