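import Groth.Agent.UnivSep5.Detects
import Groth.Agent.UnivSep5.Step
import Mathlib.RingTheory.Filtration
import Mathlib.RingTheory.Localization.AtPrime.Basic
import Mathlib.RingTheory.Localization.Finiteness
import Mathlib.RingTheory.Flat.Stability

/-!
# Families separating on every fibre are universally separating: Noetherian source
-/

universe u

set_option autoImplicit false
set_option linter.style.haveILetI false
set_option backward.isDefEq.respectTransparency false

open TensorProduct

namespace Groth.Agent.UnivSep5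

open SepFlat5

/-- An element which, up to elements outside a prime `q`, lies in every `q ^ n • ⊤`, vanishes at `q`. -/
theorem exists_smul_eq_zero_of_forall_mem_pow {R : Type u} [CommRing R] [IsNoetherianRing R] {X : Type u}
    [AddCommGroup X] [Module R X] [Module.Finite R X] (q : Ideal R) [q.IsPrime] (x : X)
    (h : ∀ n : ℕ, ∃ c ∉ q, c • x ∈ (q ^ n • ⊤ : Submodule R X)) : ∃ c ∉ q, c • x = 0 := by
  let L := Localization.AtPrime q
  let mk := LocalizedModule.mkLinearMap q.primeCompl X
  have hmem : mk x ∈ (⨅ n : ℕ, IsLocalRing.maximalIdeal L ^ n • ⊤ : Submodule L (LocalizedModule q.primeCompl X)) := by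
    refine Submodule.mem_iInf _ |>.2 fun n => ?_
    obtain ⟨c, hc, hcx⟩ := h n
    have h1 : mk (c • x) ∈ (IsLocalRing.maximalIdeal L ^ n • ⊤ : Submodule L (LocalizedModule q.primeCompl X)) := by
      refine Submodule.smul_induction_on hcx (fun a ha y _ => ?_) fun a b ha hb => by
        rw [map_add]; exact add_mem ha hb
      rw [map_smul, ← algebraMap_smul L a]
      refine Submodule.smul_mem_smul ?_ Submodule.mem_top
      rw [← Localization.AtPrime.map_eq_maximalIdeal, ← Ideal.map_pow]
      exact Ideal.mem_map_of_mem _ ha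
    rw [map_smul, ← algebraMap_smul L c] at h1
    exact (Submodule.smul_mem_iff_of_isUnit _ (IsLocalization.map_units L (⟨c, hc⟩ : q.primeCompl))).1 h1
  haveI : Module.Finite L (LocalizedModule q.primeCompl X) := Module.Finite.of_isLocalizedModule q.primeCompl mk
  rw [Ideal.iInf_pow_smul_eq_bot_of_isLocalRing _ (IsLocalRing.maximalIdeal.isMaximal L).ne_top, Submodule.mem_bot] at hmem
  obtain ⟨⟨c, hc⟩, hcx⟩ := (IsLocalizedModule.eq_zero_iff q.primeCompl mk).1 hmem
  exact ⟨c, hc, hcx⟩

variable {A B : Type u} [CommRing A] [CommRing B] [Algebra A B] {M : Type u} [AddCommGroup M] [Module B M]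
  {ι : Type u} {N : ι → Type u} [∀ i, AddCommGroup (N i)] [∀ i, Module B (N i)] {v : ∀ i, M →ₗ[B] N i}

/-- The Noetherian case. -/
theorem detects_of_fibres {A' B' : Type u} [CommRing A'] [CommRing B'] [Algebra A A'] [Algebra B B'] [Algebra A' B']
    [Algebra A B'] [IsScalarTower A B B'] [IsScalarTower A A' B'] [Algebra.IsPushout A B A' B'] [IsNoetherianRing B']
    {M' : Type u} [AddCommGroup M'] [Module B' M'] [Module B M'] [IsScalarTower B B' M']
    [Module A' M'] [IsScalarTower A' B' M'] [Module.Finite B' M']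
    {j : M →ₗ[B] M'} (hj : IsBaseChange B' j)
    {N' : ι → Type u} [∀ i, AddCommGroup (N' i)] [∀ i, Module B' (N' i)] [∀ i, Module B (N' i)]
    [∀ i, IsScalarTower B B' (N' i)] [∀ i, Module A' (N' i)] [∀ i, IsScalarTower A' B' (N' i)]
    [∀ i, Module.Flat A' (N' i)] {jN : ∀ i, N i →ₗ[B] N' i} (hjN : ∀ i, IsBaseChange B' (jN i))
    (v' : ∀ i, M' →ₗ[B'] N' i) (hv : ∀ i x, v' i (j x) = jN i (v i x))
    (hfib : ∀ (p : Ideal A) [p.IsPrime], DetectsAt A v p.ResidueField) : Detects v' := by
  classical
  intro g z hz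
  by_contra hne
  let J : Ideal B' := Ideal.torsionOf B' M' z
  have hdisj : Disjoint (J : Set B') (Submonoid.powers g : Set B') := by
    rw [Set.disjoint_left]
    rintro _ hx ⟨k, rfl⟩
    exact hne ⟨k, hx⟩
  obtain ⟨q, hq, hle, hqg⟩ := Ideal.exists_le_prime_disjoint J (Submonoid.powers g) hdisj
  let r := q.comap (algebraMap A' B')
  let p := r.comap (algebraMap A A')
  let κ := r.ResidueField
  let G : Module.End A' M' := Algebra.lsmul A' A' M' g
  let H : ∀ i, Module.End A' (N' i) := fun i => Algebra.lsmul A' A' (N' i) g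
  let w : ∀ i, M' →ₗ[A'] N' i := fun i => (v' i).restrictScalars A'
  have hGpow : ∀ m y, (G ^ m) y = g ^ m • y := fun m y => by
    rw [← map_pow]; rfl
  have hHpow : ∀ i m y, (H i ^ m) y = g ^ m • y := fun i m y => by
    rw [← map_pow]; rfl
  -- the family detects at the residue field of `r`
  have hκ : ∀ y : κ ⊗[A'] M',
      (∀ i, ∃ m : ℕ, (H i ^ m).lTensor κ ((w i).lTensor κ y) = 0) → ∃ m : ℕ, (G ^ m).lTensor κ y = 0 := by
    letI : Algebra p.ResidueField κ := (Ideal.ResidueField.map p r (algebraMap A A') rfl).toAlgebra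
    haveI : IsScalarTower A p.ResidueField κ := IsScalarTower.of_algebraMap_eq fun a => by
      rw [RingHom.algebraMap_toAlgebra, IsScalarTower.algebraMap_apply A A' κ,
        Ideal.ResidueField.map_algebraMap]
    have h0 : DetectsAt A v κ := (hfib p).field_extension
    let C := B' ⊗[A'] κ
    letI : Algebra κ C := Algebra.TensorProduct.rightAlgebra
    haveI : IsScalarTower A B C := IsScalarTower.of_algebraMap_eq fun a => by
      rw [IsScalarTower.algebraMap_apply B B' C, ← IsScalarTower.algebraMap_apply A B B']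
      rfl
    haveI : IsScalarTower A' κ C := IsScalarTower.of_algebraMap_eq fun a => by
      show (algebraMap A' B' a) ⊗ₜ[A'] (1 : κ) = 1 ⊗ₜ[A'] algebraMap A' κ a
      rw [Algebra.algebraMap_eq_smul_one, Algebra.algebraMap_eq_smul_one, TensorProduct.smul_tmul]
    haveI : IsScalarTower A κ C := IsScalarTower.of_algebraMap_eq fun a => by
      rw [IsScalarTower.algebraMap_apply A A' κ, ← IsScalarTower.algebraMap_apply A' κ C]
      show (algebraMap A B' a) ⊗ₜ[A'] (1 : κ) = (algebraMap A' B' (algebraMap A A' a)) ⊗ₜ 1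
      rw [← IsScalarTower.algebraMap_apply]
    haveI : Algebra.IsPushout A A' B B' := Algebra.IsPushout.symm inferInstance
    haveI : Algebra.IsPushout A' B' κ C := inferInstance
    haveI : Algebra.IsPushout A B κ C :=
      Algebra.IsPushout.symm ((Algebra.IsPushout.comp_iff A A' B B' (T := κ) (T' := C)).2
        (Algebra.IsPushout.symm inferInstance))
    have h1 : Detects (A := C) fun i => (v' i).baseChange C :=
      (detectsAt_iff (A := A) (j := ((TensorProduct.mk B' C M' 1).restrictScalars B).comp j)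
        (hj.comp (TensorProduct.isBaseChange B' M' C))
        (jN := fun i => ((TensorProduct.mk B' C (N' i) 1).restrictScalars B).comp (jN i))
        (fun i => (hjN i).comp (TensorProduct.isBaseChange B' (N' i) C))
        (fun i => (v' i).baseChange C) fun i x => by simp [hv]).1 h0
    intro y hy
    let E : ∀ (X : Type u) [AddCommGroup X] [Module B' X] [Module A' X] [IsScalarTower A' B' X],
        C ⊗[B'] X ≃ₗ[B'] X ⊗[A'] κ :=
      fun X _ _ _ _ => (TensorProduct.comm B' C X).trans (AlgebraTensorModule.cancelBaseChange A' B' B' X κ)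
    have hEsmul : ∀ (X : Type u) [AddCommGroup X] [Module B' X] [Module A' X] [IsScalarTower A' B' X]
        (m : ℕ) (f : X →ₗ[A'] X) (_ : ∀ x, f x = g ^ m • x) (u : κ ⊗[A'] X),
        (E X).symm (TensorProduct.comm A' κ X (f.lTensor κ u)) =
          (algebraMap B' C g) ^ m • (E X).symm (TensorProduct.comm A' κ X u) := by
      intro X _ _ _ _ m f hf u
      rw [← map_pow, algebraMap_smul, ← map_smul]
      congr 1
      induction u using TensorProduct.induction_on with
      | zero => simp
      | tmul a x => simp [hf, TensorProduct.smul_tmul']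
      | add a b ha hb => simp only [map_add, smul_add, ha, hb]
    have hEnat : ∀ i (u : κ ⊗[A'] M'), (v' i).baseChange C ((E M').symm (TensorProduct.comm A' κ M' u)) =
        (E (N' i)).symm (TensorProduct.comm A' κ (N' i) ((w i).lTensor κ u)) := by
      intro i u
      induction u using TensorProduct.induction_on with
      | zero => simp
      | tmul a x => rfl
      | add a b ha hb => simp only [map_add, ha, hb]
    obtain ⟨m, hm⟩ := h1 (algebraMap B' C g) ((E M').symm (TensorProduct.comm A' κ M' y)) fun i => by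
      obtain ⟨m, hm⟩ := hy i
      refine ⟨m, ?_⟩
      rw [hEnat, ← hEsmul (N' i) m (H i ^ m) (hHpow i m), hm, map_zero, map_zero]
    refine ⟨m, (TensorProduct.comm A' κ M').injective ((E M').symm.injective ?_)⟩
    rw [hEsmul M' m (G ^ m) (hGpow m), hm, map_zero, map_zero]
  -- hence `z` lies in all powers of `r`, up to units at `q`
  have key : ∀ n : ℕ, ∃ c ∉ q, c • z ∈ (r ^ n • ⊤ : Submodule A' M') := by
    intro n
    induction n with
    | zero => exact ⟨1, q.ne_top_iff_one.1 hq.ne_top, by simp⟩
    | succ n ih =>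
      obtain ⟨c, hc, hcz⟩ := ih
      obtain ⟨s, hs, m, hsm⟩ := exists_smul_mem_succ r G H w (fun i x => by simp [G, H, w]) hκ n (c • z) hcz
        fun i => by
          obtain ⟨m, hm⟩ := hz i
          refine ⟨m, ?_⟩
          rw [hHpow]
          show g ^ m • v' i (c • z) = 0
          rw [map_smul, smul_comm, hm, smul_zero]
      refine ⟨algebraMap A' B' s * (g ^ m * c), hq.mul_notMem (fun h => hs h)
        (hq.mul_notMem (fun h => Set.disjoint_left.1 hqg h ⟨m, rfl⟩) hc), ?_⟩
      rwa [mul_smul, algebraMap_smul, mul_smul, ← hGpow]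
  obtain ⟨c, hc, hcz⟩ := exists_smul_eq_zero_of_forall_mem_pow q z fun n => by
    obtain ⟨c, hc, hcz⟩ := key n
    refine ⟨c, hc, Submodule.smul_induction_on hcz (fun a ha y _ => ?_) fun a b ha hb => add_mem ha hb⟩
    rw [← algebraMap_smul B' a y]
    refine Submodule.smul_mem_smul ?_ Submodule.mem_top
    exact Ideal.le_comap_pow _ n ha
  exact hc (hle hcz)

/-- Inclusion of an intermediate base change is injective on a flat module. -/
theorem injective_rTensor_map_of_flat {A₁ A' : Type u} [CommRing A₁] [Algebra A A₁] [CommRing A'] [Algebra A A']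
    (f : A₁ →ₐ[A] A') (hf : Function.Injective f) (P : Type u) [AddCommGroup P] [Module B P] [Module A P]
    [IsScalarTower A B P] [Module.Flat A P] :
    Function.Injective ((Algebra.TensorProduct.map (AlgHom.id B B) f).toLinearMap.rTensor P) := by
  let E : ∀ (Q : Type u) [AddCommGroup Q] [Module A Q], (B ⊗[A] Q) ⊗[B] P ≃ₗ[B] P ⊗[A] Q :=
    fun Q _ _ => (TensorProduct.comm B (B ⊗[A] Q) P).trans (AlgebraTensorModule.cancelBaseChange A B B P Q)
  have he : ∀ y, E A' ((Algebra.TensorProduct.map (AlgHom.id B B) f).toLinearMap.rTensor P y) =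
      f.toLinearMap.lTensor P (E A₁ y) := by
    intro y
    induction y using TensorProduct.induction_on with
    | zero => simp
    | tmul d n =>
      induction d using TensorProduct.induction_on with
      | zero => simp
      | tmul b a => simp [E]
      | add a d ha hd => simp only [TensorProduct.add_tmul, map_add, ha, hd]
    | add a d ha hd => simp only [map_add, ha, hd]
  intro a b hab
  apply (E A₁).injective
  apply Module.Flat.lTensor_preserves_injective_linearMap (M := P) f.toLinearMap hf
  rw [← he, ← he, hab]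

/-- The Noetherian case, with tensor products over the source. -/
theorem detectsAt_of_isNoetherian [∀ i, Module A (N i)] [∀ i, IsScalarTower A B (N i)]
    [∀ i, Module.Flat A (N i)] [Module.Finite B M] (hfib : ∀ (p : Ideal A) [p.IsPrime], DetectsAt A v p.ResidueField)
    (A₁ B₁ : Type u) [CommRing A₁] [CommRing B₁] [Algebra A A₁] [Algebra B B₁] [Algebra A₁ B₁] [Algebra A B₁]
    [IsScalarTower A B B₁] [IsScalarTower A A₁ B₁] [Algebra.IsPushout A B A₁ B₁] [IsNoetherianRing B₁] :
    DetectsAt A v A₁ := by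
  haveI : Algebra.IsPushout A A₁ B B₁ := Algebra.IsPushout.symm inferInstance
  haveI : ∀ i, Module.Flat A₁ (B₁ ⊗[B] N i) := fun i =>
    Module.Flat.of_linearEquiv (Algebra.IsPushout.cancelBaseChange A A₁ B B₁ (N i))
  refine (detectsAt_iff (TensorProduct.isBaseChange B M B₁) (fun i => TensorProduct.isBaseChange B (N i) B₁)
    (fun i => (v i).baseChange B₁) (fun i x => by simp)).2 ?_
  exact detects_of_fibres (A := A) (A' := A₁) (B' := B₁) (TensorProduct.isBaseChange B M B₁)
    (fun i => TensorProduct.isBaseChange B (N i) B₁) (fun i => (v i).baseChange B₁) (fun i x => by simp) hfib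

/-- The finite type case. -/
theorem detectsAt_of_finiteType [IsNoetherianRing B] [Module.Finite B M] [∀ i, Module A (N i)]
    [∀ i, IsScalarTower A B (N i)] [∀ i, Module.Flat A (N i)]
    (hfib : ∀ (p : Ideal A) [p.IsPrime], DetectsAt A v p.ResidueField)
    (A₁ : Type u) [CommRing A₁] [Algebra A A₁] [Algebra.FiniteType A A₁] : DetectsAt A v A₁ := by
  haveI : IsNoetherianRing (B ⊗[A] A₁) := Algebra.FiniteType.isNoetherianRing B _
  letI : Algebra A₁ (B ⊗[A] A₁) := Algebra.TensorProduct.rightAlgebra
  haveI : IsScalarTower A A₁ (B ⊗[A] A₁) := IsScalarTower.of_algebraMap_eq fun a => by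
    show (algebraMap A B a) ⊗ₜ[A] (1 : A₁) = 1 ⊗ₜ[A] algebraMap A A₁ a
    rw [Algebra.algebraMap_eq_smul_one, Algebra.algebraMap_eq_smul_one, TensorProduct.smul_tmul]
  haveI : Algebra.IsPushout A B A₁ (B ⊗[A] A₁) := inferInstance
  exact detectsAt_of_isNoetherian hfib A₁ (B ⊗[A] A₁)

/-- Detection descends from the finitely generated subalgebras. -/
theorem detectsAt_of_subalgebras [∀ i, Module A (N i)] [∀ i, IsScalarTower A B (N i)] [∀ i, Module.Flat A (N i)]
    (A' : Type u) [CommRing A'] [Algebra A A']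
    (hfgs : ∀ A₁ : Subalgebra A A', A₁.FG → DetectsAt A v A₁) : DetectsAt A v A' := by
  classical
  intro g z hz
  -- descend to a finitely generated subalgebra
  let inc : ∀ A₁ : Subalgebra A A', B ⊗[A] A₁ →ₐ[B] B ⊗[A] A' := fun A₁ =>
    Algebra.TensorProduct.map (AlgHom.id B B) A₁.val
  let incX : ∀ (A₁ : Subalgebra A A') (X : Type u) [AddCommGroup X] [Module B X],
      (B ⊗[A] A₁) ⊗[B] X →ₗ[B] (B ⊗[A] A') ⊗[B] X := fun A₁ X _ _ => (inc A₁).toLinearMap.rTensor X
  have hg : ∀ g : B ⊗[A] A', ∃ s : Finset A', ∀ A₁ : Subalgebra A A', ↑s ⊆ (A₁ : Set A') →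
      g ∈ Set.range (inc A₁) := by
    intro g
    induction g using TensorProduct.induction_on with
    | zero => exact ⟨∅, fun A₁ _ => ⟨0, map_zero _⟩⟩
    | tmul b a => exact ⟨{a}, fun A₁ h => ⟨b ⊗ₜ ⟨a, h (by simp)⟩, rfl⟩⟩
    | add x y hx hy =>
      obtain ⟨s, hs⟩ := hx
      obtain ⟨t, ht⟩ := hy
      refine ⟨s ∪ t, fun A₁ h => ?_⟩
      rw [Finset.coe_union, Set.union_subset_iff] at h
      obtain ⟨a, ha⟩ := hs A₁ h.1
      obtain ⟨b, hb⟩ := ht A₁ h.2
      exact ⟨a + b, by rw [map_add, ha, hb]⟩
  obtain ⟨s, hs⟩ := hg g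
  obtain ⟨t, ht⟩ : ∃ t : Finset A', ∀ A₁ : Subalgebra A A', ↑t ⊆ (A₁ : Set A') → z ∈ Set.range (incX A₁ M) := by
    clear hz
    induction z using TensorProduct.induction_on with
    | zero => exact ⟨∅, fun A₁ _ => ⟨0, map_zero _⟩⟩
    | tmul c n =>
      obtain ⟨s, hs⟩ := hg c
      exact ⟨s, fun A₁ h => by
        obtain ⟨a, ha⟩ := hs A₁ h
        exact ⟨a ⊗ₜ n, by rw [LinearMap.rTensor_tmul, ← ha]; rfl⟩⟩
    | add x y hx hy =>
      obtain ⟨s, hs⟩ := hx
      obtain ⟨t, ht⟩ := hy
      refine ⟨s ∪ t, fun A₁ h => ?_⟩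
      rw [Finset.coe_union, Set.union_subset_iff] at h
      obtain ⟨a, ha⟩ := hs A₁ h.1
      obtain ⟨b, hb⟩ := ht A₁ h.2
      exact ⟨a + b, by rw [map_add, ha, hb]⟩
  let A₁ := Algebra.adjoin A (↑(s ∪ t) : Set A')
  have hsub : ↑(s ∪ t) ⊆ (A₁ : Set A') := Algebra.subset_adjoin
  rw [Finset.coe_union, Set.union_subset_iff] at hsub
  obtain ⟨g₁, rfl⟩ := hs A₁ hsub.1
  obtain ⟨z₁, rfl⟩ := ht A₁ hsub.2
  let B₁ := B ⊗[A] A₁
  have h1 : DetectsAt A v A₁ := hfgs A₁ (Subalgebra.fg_adjoin_finset (s ∪ t))
  have hsm : ∀ (X : Type u) [AddCommGroup X] [Module B X] (c : B₁) (y : B₁ ⊗[B] X),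
      incX A₁ X (c • y) = inc A₁ c • incX A₁ X y := by
    intro X _ _ c y
    induction y using TensorProduct.induction_on with
    | zero => simp
    | tmul d n =>
      show inc A₁ (c * d) ⊗ₜ n = _
      rw [map_mul]
      rfl
    | add a d ha hd => simp only [smul_add, map_add, ha, hd]
  have hnat : ∀ i (y : B₁ ⊗[B] M),
      incX A₁ (N i) ((v i).baseChange B₁ y) = (v i).baseChange (B ⊗[A] A') (incX A₁ M y) := by
    intro i y
    induction y using TensorProduct.induction_on with
    | zero => simp
    | tmul d n => rfl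
    | add a d ha hd => simp only [map_add, ha, hd]
  have hinj : ∀ i, Function.Injective (incX A₁ (N i)) := by
    intro i
    exact injective_rTensor_map_of_flat A₁.val Subtype.val_injective (N i)
  obtain ⟨m, hm⟩ := h1 g₁ z₁ fun i => by
    obtain ⟨m, hm⟩ := hz i
    refine ⟨m, hinj i ?_⟩
    rw [hsm, hnat, map_zero, map_pow]
    exact hm
  exact ⟨m, by rw [← map_pow, ← hsm, hm, map_zero]⟩

/-- A family with flat targets which detects on every fibre detects after every base change. -/
theorem detectsAt_of_fibres [IsNoetherianRing B] [Module.Finite B M] [∀ i, Module A (N i)]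
    [∀ i, IsScalarTower A B (N i)] [∀ i, Module.Flat A (N i)]
    (hfib : ∀ (p : Ideal A) [p.IsPrime], DetectsAt A v p.ResidueField)
    (A' : Type u) [CommRing A'] [Algebra A A'] : DetectsAt A v A' :=
  detectsAt_of_subalgebras A' fun A₁ hA₁ =>
    haveI : Algebra.FiniteType A A₁ := (Subalgebra.fg_iff_finiteType A₁).1 hA₁
    detectsAt_of_finiteType hfib A₁

end Groth.Agent.UnivSep5
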