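import Groth.Agent.SepFlat5.Modules
import Groth.Agent.UnivSep5.NoethCore
import Groth.Agent.GrFlat5.FlatPullback
import Groth.Agent.QCoh.SubCompare

/-!
# Separating families of homomorphisms of quasi-coherent modules, chart by chart
-/

set_option autoImplicit false
set_option linter.style.haveILetI false
set_option backward.isDefEq.respectTransparency false
set_option backward.isDefEq.respectTransparency.types false

universe u

open CategoryTheory CategoryTheory.Limits AlgebraicGeometry TopologicalSpace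
open scoped TensorProduct

namespace Groth.Agent.UnivSep5

/-- A section over an open which is killed by every member is zero. -/
def Separating {X : Scheme.{u}} {F : X.Modules} {ι : Type u} {G : ι → X.Modules} (v : ∀ i, F ⟶ G i) : Prop :=
  ∀ (V : X.Opens) (t : Γ(F, V)), (∀ i, (v i).app V t = 0) → t = 0

theorem Separating.detects {X : Scheme.{u}} {F : X.Modules} {ι : Type u} {G : ι → X.Modules} {v : ∀ i, F ⟶ G i}
    (h : Separating v) (hF : Coh.IsQCoh F) (hG : ∀ i, Coh.IsQCoh (G i)) {W : X.Opens} (hW : IsAffineOpen W) :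
    SepFlat5.Detects fun i => QCoh.appLin (v i) W := by
  intro c y hy
  letI := QCoh.basicModule (U := W) c F
  refine (fun h0 : F.presheaf.map (homOfLE (X.basicOpen_le c)).op y = 0 => ?_) (h _ _ fun i => ?_)
  · haveI := QCoh.isLocalizedModule_basicRes c hF hW
    obtain ⟨⟨_, n, rfl⟩, hn⟩ := (IsLocalizedModule.eq_zero_iff (Submonoid.powers c) (QCoh.basicRes c F)).1 h0
    exact ⟨n, hn⟩
  · obtain ⟨m, hm⟩ := hy i
    letI := QCoh.basicModule (U := W) c (G i)
    haveI := QCoh.isLocalizedModule_basicRes c (hG i) hW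
    have h1 : QCoh.basicRes c (G i) ((v i).app W y) = 0 :=
      (IsLocalizedModule.eq_zero_iff (Submonoid.powers c) (QCoh.basicRes c (G i))).2 ⟨⟨c ^ m, m, rfl⟩, hm⟩
    exact (QCoh.map_app_comm (v i) (homOfLE (X.basicOpen_le c)) y).trans h1

theorem separating_of_detects {X : Scheme.{u}} {F : X.Modules} {ι : Type u} {G : ι → X.Modules} {v : ∀ i, F ⟶ G i}
    (hF : Coh.IsQCoh F) (hG : ∀ i, Coh.IsQCoh (G i))
    (h : ∀ x : X, ∃ W : X.Opens, IsAffineOpen W ∧ x ∈ W ∧ SepFlat5.Detects fun i => QCoh.appLin (v i) W) :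
    Separating v := by
  intro V t ht
  refine QCoh.eq_zero_of_locally V t fun x hx => ?_
  obtain ⟨W, hW, hxW, hdet⟩ := h x
  obtain ⟨g, hgV, hxg⟩ := hW.exists_basicOpen_le (V := V) ⟨x, hx⟩ hxW
  refine ⟨X.basicOpen g, homOfLE hgV, hxg, ?_⟩
  letI := QCoh.basicModule (U := W) g F
  haveI := QCoh.isLocalizedModule_basicRes g hF hW
  obtain ⟨⟨z, ⟨_, n, rfl⟩⟩, hn⟩ := IsLocalizedModule.surj (Submonoid.powers g) (QCoh.basicRes g F)
    (F.presheaf.map (homOfLE hgV).op t)
  obtain ⟨m, hm⟩ := hdet g z fun i => by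
    letI := QCoh.basicModule (U := W) g (G i)
    haveI := QCoh.isLocalizedModule_basicRes g (hG i) hW
    have h1 : QCoh.basicRes g (G i) ((v i).app W z) = 0 := by
      show (G i).presheaf.map (homOfLE (X.basicOpen_le g)).op ((v i).app W z) = 0
      rw [← QCoh.map_app_comm]
      refine (congrArg ((v i).app _) hn.symm).trans ?_
      show (v i).app _ (X.presheaf.map (homOfLE (X.basicOpen_le g)).op (g ^ n) • F.presheaf.map (homOfLE hgV).op t) = 0
      rw [Scheme.Modules.Hom.app_smul, QCoh.map_app_comm, ht i, map_zero, smul_zero]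
    obtain ⟨⟨_, k, rfl⟩, hk⟩ := (IsLocalizedModule.eq_zero_iff (Submonoid.powers g) (QCoh.basicRes g (G i))).1 h1
    exact ⟨k, hk⟩
  refine IsLocalizedModule.smul_injective (QCoh.basicRes g F) (⟨g ^ n, n, rfl⟩ : Submonoid.powers g) ?_
  show (⟨g ^ n, n, rfl⟩ : Submonoid.powers g) • _ = (⟨g ^ n, n, rfl⟩ : Submonoid.powers g) • _
  rw [hn, smul_zero]
  exact (IsLocalizedModule.eq_zero_iff (Submonoid.powers g) (QCoh.basicRes g F)).2 ⟨⟨g ^ m, m, rfl⟩, hm⟩

variable {X S X' T : Scheme.{u}} {p : X ⟶ S} {u' : X' ⟶ T} {g' : X' ⟶ X} {k : T ⟶ S}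

/-- Detection on a chart of a base change is detection after base change of the ring of the base. -/
theorem detectsAt_iff_sections (hc : IsPullback g' u' p k) {F : X.Modules} (hF : Coh.IsQCoh F) {ι : Type u}
    {G : ι → X.Modules} (hG : ∀ i, Coh.IsQCoh (G i)) (v : ∀ i, F ⟶ G i) {V : S.Opens} (hV : IsAffineOpen V)
    {U : X.Opens} (hU : IsAffineOpen U) (hUV : U ≤ p ⁻¹ᵁ V) {O : T.Opens} (hO : IsAffineOpen O)
    (hOV : O ≤ k ⁻¹ᵁ V) :
    (letI := (p.appLE V U hUV).hom.toAlgebra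
     letI := (k.appLE V O hOV).hom.toAlgebra
     DetectsAt Γ(S, V) (fun i => QCoh.appLin (v i) U) Γ(T, O)) ↔
      IsAffineOpen (g' ⁻¹ᵁ U ⊓ u' ⁻¹ᵁ O) ∧
        SepFlat5.Detects fun i => QCoh.appLin ((Scheme.Modules.pullback g').map (v i)) (g' ⁻¹ᵁ U ⊓ u' ⁻¹ᵁ O) := by
  let W : X'.Opens := g' ⁻¹ᵁ U ⊓ u' ⁻¹ᵁ O
  have hW : IsAffineOpen W := by
    haveI : IsAffine _ := hV
    haveI : IsAffine _ := hO
    haveI : IsAffine _ := hU
    exact .of_isIso (Scheme.Hom.isPullback_resLE hc hOV hUV (UY := W) rfl).isoPullback.hom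
  rw [and_iff_right hW]
  have hpo := (isIso_pushoutSection_iff hc hOV hUV (UY := W) rfl).mp
    (isIso_pushoutSection_of_isAffineOpen hc hOV hUV rfl hV hO hU)
  let P := Scheme.Modules.pullback g'
  letI : Algebra Γ(S, V) Γ(X, U) := (p.appLE V U hUV).hom.toAlgebra
  letI : Algebra Γ(S, V) Γ(T, O) := (k.appLE V O hOV).hom.toAlgebra
  letI : Algebra Γ(X, U) Γ(X', W) := (g'.appLE U W inf_le_left).hom.toAlgebra
  letI : Algebra Γ(T, O) Γ(X', W) := (u'.appLE O W inf_le_right).hom.toAlgebra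
  letI : Algebra Γ(S, V) Γ(X', W) := (p.appLE V U hUV ≫ g'.appLE U W inf_le_left).hom.toAlgebra
  haveI : IsScalarTower Γ(S, V) Γ(X, U) Γ(X', W) := .of_algebraMap_eq fun _ => rfl
  haveI : IsScalarTower Γ(S, V) Γ(T, O) Γ(X', W) := .of_algebraMap_eq fun r => congr($(hpo.w).hom r)
  haveI : Algebra.IsPushout Γ(S, V) Γ(X, U) Γ(T, O) Γ(X', W) :=
    CommRingCat.isPushout_iff_isPushout.mp hpo
  letI : ∀ M : X'.Modules, Module Γ(X, U) Γ(M, W) := fun M => Module.compHom _ (g'.appLE U W inf_le_left).hom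
  haveI : ∀ M : X'.Modules, IsScalarTower Γ(X, U) Γ(X', W) Γ(M, W) := fun M =>
    .of_algebraMap_smul fun _ _ => rfl
  let l : ∀ M : X.Modules, Γ(M, U) →ₗ[Γ(X, U)] Γ(P.obj M, W) := fun M =>
    { toFun := QCoh.pullSec g' M inf_le_left
      map_add' := QCoh.pullSec_add g' M inf_le_left
      map_smul' := fun r m => QCoh.pullSec_smul g' M inf_le_left r m }
  have hl : ∀ (M : X.Modules), Coh.IsQCoh M → IsBaseChange Γ(X', W) (l M) := fun M hM =>
    QCoh.isBaseChange_pullback hU g' hW hM inf_le_left (fun _ => rfl) (l M) fun _ => rfl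
  exact detectsAt_iff (hl F hF) (fun i => hl (G i) (hG i)) (fun i => QCoh.appLin (P.map (v i)) W)
    fun i x => ZClosLib.pullSec_natural g' (v i) inf_le_left x

end Groth.Agent.UnivSep5
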