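import Groth.Agent.UnivSep5.Nilpotent
import Groth.Agent.UnivSep5.Separating

/-!
# Separation modulo a nilpotent ideal with free graded pieces
-/

set_option autoImplicit false
set_option linter.style.haveILetI false
set_option backward.isDefEq.respectTransparency false
set_option backward.isDefEq.respectTransparency.types false

universe u

open CategoryTheory CategoryTheory.Limits AlgebraicGeometry TopologicalSpace
open scoped TensorProduct

namespace Groth.Agent.UnivSep5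

variable {X : Scheme.{u}} {F : X.Modules} {ι : Type u} {G : ι → X.Modules} {v : ∀ i, F ⟶ G i}

theorem separating_of_nilpotent {A : CommRingCat.{u}} (p : X ⟶ Spec A) (J : Ideal ↑A) (hJ : IsNilpotent J)
    (hfree : ∀ k : ℕ, Module.Free (↑A ⧸ J) ((↑A ⧸ J) ⊗[↑A] ↥(J ^ k))) (hF : Coh.IsQCoh F)
    (hG : ∀ i, Coh.IsQCoh (G i)) (hflat : ∀ i, FlatMod.IsFlatOver p (G i))
    (h0 : Separating fun i => (Scheme.Modules.pullback
      (pullback.fst p (Spec.map (CommRingCat.ofHom (Ideal.Quotient.mk J))))).map (v i)) : Separating v := by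
  refine separating_of_detects hF hG fun x => ?_
  let A₀ : CommRingCat.{u} := CommRingCat.of (↑A ⧸ J)
  let π : A ⟶ A₀ := CommRingCat.ofHom (Ideal.Quotient.mk J)
  let k := Spec.map π
  let g' := pullback.fst p k
  let u' := pullback.snd p k
  obtain ⟨U, hU, hxU, -⟩ := exists_isAffineOpen_mem_and_subset (x := x) (U := ⊤) trivial
  refine ⟨U, hU, hxU, ?_⟩
  have hUV : U ≤ p ⁻¹ᵁ ⊤ := fun _ _ => trivial
  have hOV : (⊤ : (Spec A₀).Opens) ≤ k ⁻¹ᵁ ⊤ := fun _ _ => trivial
  have hV := isAffineOpen_top (Spec A)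
  have hO := isAffineOpen_top (Spec A₀)
  let W : (pullback p k).Opens := g' ⁻¹ᵁ U ⊓ u' ⁻¹ᵁ ⊤
  let hc : IsPullback g' u' p k := IsPullback.of_hasPullback p k
  have hW : IsAffineOpen W := by
    haveI : IsAffine _ := hV
    haveI : IsAffine _ := hO
    haveI : IsAffine _ := hU
    exact .of_isIso (Scheme.Hom.isPullback_resLE hc hOV hUV (UY := W) rfl).isoPullback.hom
  have hpo := (isIso_pushoutSection_iff hc hOV hUV (UY := W) rfl).mp
    (isIso_pushoutSection_of_isAffineOpen hc hOV hUV rfl hV hO hU)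
  let a : A ⟶ Γ(X, U) := (Scheme.ΓSpecIso A).inv ≫ p.appLE ⊤ U hUV
  let b : A₀ ⟶ Γ(pullback p k, W) := (Scheme.ΓSpecIso A₀).inv ≫ u'.appLE ⊤ W inf_le_right
  have hk : k.appLE ⊤ ⊤ hOV = (Scheme.ΓSpecIso A).hom ≫ π ≫ (Scheme.ΓSpecIso A₀).inv := by
    rw [← Scheme.ΓSpecIso_naturality_assoc, Iso.hom_inv_id, Category.comp_id]
    simp [k, Scheme.Hom.appLE, Scheme.Hom.appTop]
  have hpo' : IsPushout a π (g'.appLE U W inf_le_left) b :=
    hpo.of_iso (Scheme.ΓSpecIso A) (Iso.refl _) (Scheme.ΓSpecIso A₀) (Iso.refl _)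
      (by simp [a]) (by rw [hk]; simp) (by simp) (by simp [b, u'])
  letI : Algebra ↑A Γ(X, U) := a.hom.toAlgebra
  letI : Algebra Γ(X, U) Γ(pullback p k, W) := (g'.appLE U W inf_le_left).hom.toAlgebra
  letI : Algebra (↑A ⧸ J) Γ(pullback p k, W) := b.hom.toAlgebra
  letI : Algebra ↑A Γ(pullback p k, W) := (a ≫ g'.appLE U W inf_le_left).hom.toAlgebra
  haveI : IsScalarTower ↑A Γ(X, U) Γ(pullback p k, W) := .of_algebraMap_eq fun _ => rfl
  haveI : IsScalarTower ↑A (↑A ⧸ J) Γ(pullback p k, W) := .of_algebraMap_eq fun r => congr($(hpo'.w).hom r)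
  haveI : Algebra.IsPushout ↑A Γ(X, U) (↑A ⧸ J) Γ(pullback p k, W) :=
    CommRingCat.isPushout_iff_isPushout.mp hpo'
  letI : ∀ M : (pullback p k).Modules, Module Γ(X, U) Γ(M, W) := fun M =>
    Module.compHom _ (g'.appLE U W inf_le_left).hom
  haveI : ∀ M : (pullback p k).Modules, IsScalarTower Γ(X, U) Γ(pullback p k, W) Γ(M, W) := fun M =>
    .of_algebraMap_smul fun _ _ => rfl
  let P := Scheme.Modules.pullback g'
  let l : ∀ M : X.Modules, Γ(M, U) →ₗ[Γ(X, U)] Γ(P.obj M, W) := fun M =>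
    { toFun := QCoh.pullSec g' M inf_le_left
      map_add' := QCoh.pullSec_add g' M inf_le_left
      map_smul' := fun r m => QCoh.pullSec_smul g' M inf_le_left r m }
  have hl : ∀ (M : X.Modules), Coh.IsQCoh M → IsBaseChange Γ(pullback p k, W) (l M) := fun M hM =>
    QCoh.isBaseChange_pullback hU g' hW hM inf_le_left (fun _ => rfl) (l M) fun _ => rfl
  have hdet : DetectsAt ↑A (fun i => QCoh.appLin (v i) U) (↑A ⧸ J) :=
    (detectsAt_iff (hl F hF) (fun i => hl (G i) (hG i)) (fun i => QCoh.appLin (P.map (v i)) W)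
      fun i y => ZClosLib.pullSec_natural g' (v i) inf_le_left y).2
      (h0.detects (QCoh.isQCoh_pullback _ hF) (fun i => QCoh.isQCoh_pullback _ (hG i)) hW)
  letI : Module ↑A Γ(F, U) := Module.compHom _ a.hom
  haveI : IsScalarTower ↑A Γ(X, U) Γ(F, U) := .of_algebraMap_smul fun _ _ => rfl
  letI : ∀ i, Module ↑A Γ(G i, U) := fun i => Module.compHom _ a.hom
  haveI : ∀ i, IsScalarTower ↑A Γ(X, U) Γ(G i, U) := fun i => .of_algebraMap_smul fun _ _ => rfl
  haveI : ∀ i, Module.Flat ↑A Γ(G i, U) := fun i => by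
    letI : Module Γ(Spec A, ⊤) Γ(G i, U) := Module.compHom _ (p.appLE ⊤ U hUV).hom
    haveI hG' : Module.Flat Γ(Spec A, ⊤) Γ(G i, U) :=
      (QCoh.flat_appLE_iff p (hG i) hU hV hUV).2 fun y _ => hflat i y
    letI : Algebra ↑A Γ(Spec A, ⊤) := (Scheme.ΓSpecIso A).inv.hom.toAlgebra
    haveI : IsScalarTower ↑A Γ(Spec A, ⊤) Γ(G i, U) := .of_algebraMap_smul fun _ _ => rfl
    haveI : Module.Flat ↑A Γ(Spec A, ⊤) := RingHom.flat_algebraMap_iff.1
      (RingHom.Flat.of_bijective (Scheme.ΓSpecIso A).symm.commRingCatIsoToRingEquiv.bijective)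
    exact Module.Flat.trans ↑A Γ(Spec A, ⊤) Γ(G i, U)
  exact detects_of_nilpotent J hJ hfree hdet

end Groth.Agent.UnivSep5
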