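import Groth.Agent.UnivSep5.NoethScheme

/-!
# Separating families and finitely generated subalgebras
-/

set_option autoImplicit false
set_option linter.style.haveILetI false
set_option backward.isDefEq.respectTransparency false
set_option backward.isDefEq.respectTransparency.types false

universe u

open CategoryTheory CategoryTheory.Limits AlgebraicGeometry TopologicalSpace

namespace Groth.Agent.UnivSep5

variable {X : Scheme.{u}} {F : X.Modules} {ι : Type u} {G : ι → X.Modules} {v : ∀ i, F ⟶ G i}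

theorem appLE_top_specMap {A B : CommRingCat.{u}} (a : A ⟶ B) (h : (⊤ : (Spec B).Opens) ≤ Spec.map a ⁻¹ᵁ ⊤) :
    (Spec.map a).appLE ⊤ ⊤ h = (Scheme.ΓSpecIso A).hom ≫ a ≫ (Scheme.ΓSpecIso B).inv := by
  rw [← Scheme.ΓSpecIso_naturality_assoc, Iso.hom_inv_id, Category.comp_id]
  simp [Scheme.Hom.appLE, Scheme.Hom.appTop]

/-- Separation after base change along `φ` follows from separation over the finitely generated subalgebras. -/
theorem separating_of_finiteType_subalgebras {A A' : CommRingCat.{u}} (φ : A ⟶ A') (p : X ⟶ Spec A)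
    (hF : Coh.IsQCoh F) (hG : ∀ i, Coh.IsQCoh (G i)) (hflat : ∀ i, FlatMod.IsFlatOver p (G i))
    (hfg : ∀ (B : CommRingCat.{u}) (a : A ⟶ B) (b : B ⟶ A'), a ≫ b = φ → Function.Injective b.hom →
      a.hom.FiniteType → Separating fun i => (Scheme.Modules.pullback (pullback.fst p (Spec.map a))).map (v i)) :
    Separating fun i => (Scheme.Modules.pullback (pullback.fst p (Spec.map φ))).map (v i) := by
  refine separating_of_detects (QCoh.isQCoh_pullback _ hF) (fun i => QCoh.isQCoh_pullback _ (hG i)) fun x => ?_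
  let k := Spec.map φ
  obtain ⟨U, hU, hxU, -⟩ := exists_isAffineOpen_mem_and_subset (x := pullback.fst p k x) (U := ⊤) trivial
  have hUV : U ≤ p ⁻¹ᵁ ⊤ := fun _ _ => trivial
  have hOV : (⊤ : (Spec A').Opens) ≤ k ⁻¹ᵁ ⊤ := fun _ _ => trivial
  letI : Algebra Γ(Spec A, ⊤) Γ(X, U) := (p.appLE ⊤ U hUV).hom.toAlgebra
  letI : Algebra Γ(Spec A, ⊤) Γ(Spec A', ⊤) := (k.appLE ⊤ ⊤ hOV).hom.toAlgebra
  letI : ∀ i, Module Γ(Spec A, ⊤) Γ(G i, U) := fun i => Module.compHom _ (p.appLE ⊤ U hUV).hom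
  haveI : ∀ i, IsScalarTower Γ(Spec A, ⊤) Γ(X, U) Γ(G i, U) := fun i => .of_algebraMap_smul fun _ _ => rfl
  haveI : ∀ i, Module.Flat Γ(Spec A, ⊤) Γ(G i, U) := fun i =>
    (QCoh.flat_appLE_iff p (hG i) hU (isAffineOpen_top _) hUV).2 fun y _ => hflat i y
  have key : DetectsAt Γ(Spec A, ⊤) (fun i => QCoh.appLin (v i) U) Γ(Spec A', ⊤) := by
    refine detectsAt_of_subalgebras Γ(Spec A', ⊤) fun A₁ hA₁ => ?_
    let B : CommRingCat.{u} := CommRingCat.of A₁
    let a : A ⟶ B := (Scheme.ΓSpecIso A).inv ≫ CommRingCat.ofHom (algebraMap Γ(Spec A, ⊤) A₁)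
    let b : B ⟶ A' := CommRingCat.ofHom A₁.val.toRingHom ≫ (Scheme.ΓSpecIso A').hom
    have hab : a ≫ b = φ := by
      have e : CommRingCat.ofHom (algebraMap Γ(Spec A, ⊤) A₁) ≫ CommRingCat.ofHom A₁.val.toRingHom =
          k.appLE ⊤ ⊤ hOV := rfl
      rw [show a ≫ b = (Scheme.ΓSpecIso A).inv ≫ (CommRingCat.ofHom (algebraMap Γ(Spec A, ⊤) A₁) ≫
        CommRingCat.ofHom A₁.val.toRingHom) ≫ (Scheme.ΓSpecIso A').hom by simp [a, b], e,
        appLE_top_specMap φ hOV]
      simp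
    have hb : Function.Injective b.hom :=
      (Scheme.ΓSpecIso A').commRingCatIsoToRingEquiv.injective.comp Subtype.val_injective
    have ha : a.hom.FiniteType := by
      haveI : Algebra.FiniteType Γ(Spec A, ⊤) A₁ := (Subalgebra.fg_iff_finiteType A₁).1 hA₁
      exact (RingHom.finiteType_algebraMap.2 ‹_›).comp
        (RingHom.FiniteType.of_surjective _ (Scheme.ΓSpecIso A).symm.commRingCatIsoToRingEquiv.surjective)
    have hBV : (⊤ : (Spec B).Opens) ≤ Spec.map a ⁻¹ᵁ ⊤ := fun _ _ => trivial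
    letI : Algebra Γ(Spec A, ⊤) Γ(Spec B, ⊤) := ((Spec.map a).appLE ⊤ ⊤ hBV).hom.toAlgebra
    have halg : CommRingCat.ofHom (algebraMap Γ(Spec A, ⊤) A₁) ≫ (Scheme.ΓSpecIso B).inv =
        (Spec.map a).appLE ⊤ ⊤ hBV := by
      rw [appLE_top_specMap]
      show _ = (Scheme.ΓSpecIso A).hom ≫
        ((Scheme.ΓSpecIso A).inv ≫ CommRingCat.ofHom (algebraMap Γ(Spec A, ⊤) A₁)) ≫ (Scheme.ΓSpecIso B).inv
      rw [Category.assoc, Iso.hom_inv_id_assoc]
    let f : A₁ →ₐ[Γ(Spec A, ⊤)] Γ(Spec B, ⊤) :=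
      { (Scheme.ΓSpecIso B).inv.hom with commutes' := fun c => congr($(halg).hom c) }
    let r : Γ(Spec B, ⊤) →ₗ[Γ(Spec A, ⊤)] A₁ :=
      (AlgEquiv.ofBijective f (Scheme.ΓSpecIso B).symm.commRingCatIsoToRingEquiv.bijective).symm.toLinearMap
    have hW : IsAffineOpen (pullback.fst p (Spec.map a) ⁻¹ᵁ U ⊓ pullback.snd p (Spec.map a) ⁻¹ᵁ ⊤) := by
      haveI : IsAffine _ := isAffineOpen_top (Spec A)
      haveI : IsAffine _ := isAffineOpen_top (Spec B)
      haveI : IsAffine _ := hU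
      exact .of_isIso (Scheme.Hom.isPullback_resLE (IsPullback.of_hasPullback p (Spec.map a)) hBV hUV
        (UY := pullback.fst p (Spec.map a) ⁻¹ᵁ U ⊓ pullback.snd p (Spec.map a) ⁻¹ᵁ ⊤) rfl).isoPullback.hom
    exact ((detectsAt_iff_sections (IsPullback.of_hasPullback p (Spec.map a)) hF hG v (isAffineOpen_top _) hU hUV
      (isAffineOpen_top _) hBV).2 ⟨hW, (hfg B a b hab hb ha).detects (QCoh.isQCoh_pullback _ hF)
        (fun i => QCoh.isQCoh_pullback _ (hG i)) hW⟩).descend f r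
      (LinearMap.ext fun c => AlgEquiv.symm_apply_apply
        (AlgEquiv.ofBijective f (Scheme.ΓSpecIso B).symm.commRingCatIsoToRingEquiv.bijective) c)
  obtain ⟨hW, hdet⟩ := (detectsAt_iff_sections (IsPullback.of_hasPullback p k) hF hG v (isAffineOpen_top _) hU hUV
    (isAffineOpen_top _) hOV).1 key
  exact ⟨_, hW, ⟨hxU, trivial⟩, hdet⟩

end Groth.Agent.UnivSep5
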