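import Groth.Agent.SepFlat5.Field
import Mathlib.RingTheory.IsTensorProduct

/-!
# Families detecting after a base change of the base ring
-/

universe u

set_option autoImplicit false
set_option linter.style.haveILetI false
set_option backward.isDefEq.respectTransparency false

open TensorProduct

namespace Groth.Agent.UnivSep5

open SepFlat5

variable (A : Type u) {B : Type u} [CommRing A] [CommRing B] [Algebra A B] {M : Type u} [AddCommGroup M] [Module B M]
  {ι : Type u} {N : ι → Type u} [∀ i, AddCommGroup (N i)] [∀ i, Module B (N i)] (v : ∀ i, M →ₗ[B] N i)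

/-- The family stays jointly injective on every principal open after base change along `A → A'`. -/
def DetectsAt (A' : Type u) [CommRing A'] [Algebra A A'] : Prop :=
  Detects (A := B ⊗[A] A') fun i => (v i).baseChange (B ⊗[A] A')

variable {A} {v}

/-- Comparison with any base change. -/
theorem detectsAt_iff {A' B' : Type u} [CommRing A'] [CommRing B'] [Algebra A A'] [Algebra B B'] [Algebra A' B']
    [Algebra A B'] [IsScalarTower A B B'] [IsScalarTower A A' B'] [Algebra.IsPushout A B A' B']
    {M' : Type u} [AddCommGroup M'] [Module B' M'] [Module B M'] [IsScalarTower B B' M']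
    {j : M →ₗ[B] M'} (hj : IsBaseChange B' j)
    {N' : ι → Type u} [∀ i, AddCommGroup (N' i)] [∀ i, Module B' (N' i)] [∀ i, Module B (N' i)]
    [∀ i, IsScalarTower B B' (N' i)] {jN : ∀ i, N i →ₗ[B] N' i} (hjN : ∀ i, IsBaseChange B' (jN i))
    (v' : ∀ i, M' →ₗ[B'] N' i) (hv : ∀ i x, v' i (j x) = jN i (v i x)) :
    DetectsAt A v A' ↔ Detects v' := by
  let θ : B ⊗[A] A' ≃ₐ[B] B' := Algebra.IsPushout.equiv A B A' B'
  let Ψ : (B ⊗[A] A') ⊗[B] M ≃ₗ[B] M' :=
    (θ.toLinearEquiv.rTensor M).trans (hj.equiv.restrictScalars B)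
  let ΨN : ∀ i, (B ⊗[A] A') ⊗[B] N i ≃ₗ[B] N' i := fun i =>
    (θ.toLinearEquiv.rTensor (N i)).trans ((hjN i).equiv.restrictScalars B)
  have hΨ : ∀ c y, Ψ (c • y) = θ c • Ψ y := by
    intro c y
    induction y using TensorProduct.induction_on with
    | zero => simp
    | tmul d m => simp [Ψ, TensorProduct.smul_tmul', hj.equiv_tmul, map_mul, mul_smul]
    | add a b ha hb => simp only [smul_add, map_add, ha, hb]
  have hΨN : ∀ i c y, ΨN i (c • y) = θ c • ΨN i y := by
    intro i c y
    induction y using TensorProduct.induction_on with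
    | zero => simp
    | tmul d m => simp [ΨN, TensorProduct.smul_tmul', (hjN i).equiv_tmul, map_mul, mul_smul]
    | add a b ha hb => simp only [smul_add, map_add, ha, hb]
  have hnat : ∀ i y, ΨN i ((v i).baseChange (B ⊗[A] A') y) = v' i (Ψ y) := by
    intro i y
    induction y using TensorProduct.induction_on with
    | zero => simp
    | tmul d m => simp [Ψ, ΨN, hj.equiv_tmul, (hjN i).equiv_tmul, hv, map_smul]
    | add a b ha hb => simp only [map_add, ha, hb]
  constructor
  · intro h c x hx
    obtain ⟨c, rfl⟩ := θ.surjective c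
    obtain ⟨y, rfl⟩ := Ψ.surjective x
    obtain ⟨m, hm⟩ := h c y fun i => by
      obtain ⟨m, hm⟩ := hx i
      refine ⟨m, (ΨN i).injective ?_⟩
      rw [map_zero, hΨN, hnat, map_pow]
      exact hm
    refine ⟨m, ?_⟩
    rw [← map_pow, ← hΨ, hm, map_zero]
  · intro h c x hx
    obtain ⟨m, hm⟩ := h (θ c) (Ψ x) fun i => by
      obtain ⟨m, hm⟩ := hx i
      refine ⟨m, ?_⟩
      rw [← hnat, ← map_pow, ← hΨN]
      exact (congrArg (ΨN i) hm).trans (map_zero _)
    refine ⟨m, Ψ.injective ?_⟩
    rw [map_zero, hΨ, map_pow, hm]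

/-- Base change in two steps. -/
theorem detectsAt_of_two_step {K Bk C : Type u} [CommRing K] [CommRing Bk] [CommRing C] [Algebra A K] [Algebra B Bk]
    [Algebra Bk C] [Algebra B C] [IsScalarTower B Bk C] [Algebra K C] [Algebra A C] [IsScalarTower A B C]
    [IsScalarTower A K C] [Algebra.IsPushout A B K C]
    (h : Detects (A := C) fun i => ((v i).baseChange Bk).baseChange C) : DetectsAt A v K :=
  (detectsAt_iff (j := ((TensorProduct.mk Bk C (Bk ⊗[B] M) 1).restrictScalars B).comp (TensorProduct.mk B Bk M 1))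
    ((TensorProduct.isBaseChange B M Bk).comp (TensorProduct.isBaseChange Bk (Bk ⊗[B] M) C))
    (jN := fun i => ((TensorProduct.mk Bk C (Bk ⊗[B] N i) 1).restrictScalars B).comp (TensorProduct.mk B Bk (N i) 1))
    (fun i => (TensorProduct.isBaseChange B (N i) Bk).comp (TensorProduct.isBaseChange Bk (Bk ⊗[B] N i) C))
    (fun i => ((v i).baseChange Bk).baseChange C) fun i x => by simp).2 h

/-- Extension of a field keeps the property. -/
theorem DetectsAt.field_extension {k K : Type u} [Field k] [Field K] [Algebra A k] [Algebra A K] [Algebra k K]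
    [IsScalarTower A k K] (h : DetectsAt A v k) : DetectsAt A v K := by
  letI : Algebra k (B ⊗[A] k) := Algebra.TensorProduct.rightAlgebra
  let Bk := B ⊗[A] k
  let C := Bk ⊗[k] K
  letI : Algebra K C := Algebra.TensorProduct.rightAlgebra
  haveI : IsScalarTower A K C := IsScalarTower.of_algebraMap_eq fun a => by
    rw [IsScalarTower.algebraMap_apply A k K, IsScalarTower.algebraMap_apply A Bk C]
    have e : algebraMap A Bk a = algebraMap k Bk (algebraMap A k a) := by
      show (algebraMap A B a) ⊗ₜ[A] (1 : k) = 1 ⊗ₜ[A] algebraMap A k a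
      rw [Algebra.algebraMap_eq_smul_one, Algebra.algebraMap_eq_smul_one, TensorProduct.smul_tmul]
    rw [e]
    show (algebraMap k Bk (algebraMap A k a)) ⊗ₜ[k] (1 : K) = 1 ⊗ₜ[k] algebraMap k K (algebraMap A k a)
    rw [Algebra.algebraMap_eq_smul_one, Algebra.algebraMap_eq_smul_one (A := K), TensorProduct.smul_tmul]
  haveI : IsScalarTower A k Bk := IsScalarTower.of_algebraMap_eq fun a => by
    show (algebraMap A B a) ⊗ₜ[A] (1 : k) = 1 ⊗ₜ[A] algebraMap A k a
    rw [Algebra.algebraMap_eq_smul_one, Algebra.algebraMap_eq_smul_one, TensorProduct.smul_tmul]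
  haveI : IsScalarTower A k C := IsScalarTower.of_algebraMap_eq (R := A) (S := k) (A := C) fun a => by
    show (algebraMap A Bk a) ⊗ₜ[k] (1 : K) = (algebraMap k Bk (algebraMap A k a)) ⊗ₜ[k] 1
    rw [← IsScalarTower.algebraMap_apply]
  haveI : Algebra.IsPushout A B k Bk := inferInstance
  haveI : Algebra.IsPushout k Bk K C := inferInstance
  haveI : Algebra.IsPushout A B K C :=
    Algebra.IsPushout.symm ((Algebra.IsPushout.comp_iff A k B Bk (T := K) (T' := C)).2
      (Algebra.IsPushout.symm inferInstance))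
  exact detectsAt_of_two_step (Bk := Bk) (C := C)
    fun g z hz => exists_pow_smul_field (k := k) (A := Bk) (D := K) (fun i => (v i).baseChange Bk) h g z hz

end Groth.Agent.UnivSep5
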