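import Groth.Agent.UnivSep5.LocalReg
import Mathlib.RingTheory.IsTensorProduct
import Mathlib.RingTheory.Flat.Stability
import Mathlib.RingTheory.Ideal.AssociatedPrime.Finiteness

/-!
# Modules with no sections supported on a closed set in every fibre

For a flat module of finite presentation, if no non-zero element of any fibre module is killed by an ideal `I`,
then after every base change no non-zero element is killed by powers of all elements of `I`.
-/

universe u

set_option autoImplicit false
set_option linter.style.haveILetI false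

open TensorProduct

namespace Groth.Agent.UnivSep5

variable (A B M : Type u) [CommRing A] [CommRing B] [Algebra A B] [AddCommGroup M] [Module B M] [Module A M]
  [IsScalarTower A B M]

/-- No non-zero element of the fibre module over `p` is killed by `I`. -/
def NoKill (I : Ideal B) (p : Ideal A) [p.IsPrime] : Prop :=
  ∀ y : M ⊗[A] p.ResidueField, (∀ h ∈ I, h • y = 0) → y = 0

variable {A B M}

theorem exists_regular_of_noKill [Algebra.FiniteType A B] [Module.Finite B M] {I : Ideal B} {p : Ideal A}
    [p.IsPrime] (hI : NoKill A B M I p) :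
    ∃ h ∈ I, ∀ y : M ⊗[A] p.ResidueField, h • y = 0 → y = 0 := by
  classical
  let κ := p.ResidueField
  let C := B ⊗[A] κ
  let P := C ⊗[B] M
  let E : P ≃ₗ[B] M ⊗[A] κ :=
    ((TensorProduct.comm B C M).trans (AlgebraTensorModule.cancelBaseChange A B B M κ))
  haveI : Algebra.FiniteType κ (κ ⊗[A] B) := inferInstance
  haveI : IsNoetherianRing (κ ⊗[A] B) := Algebra.FiniteType.isNoetherianRing κ _
  haveI : IsNoetherianRing C :=
    isNoetherianRing_of_ringEquiv _ (Algebra.TensorProduct.comm A κ B).toRingEquiv
  by_contra hcon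
  push Not at hcon
  have hz : ∀ h ∈ I, algebraMap B C h ∈ ⋃ Q ∈ associatedPrimes C P, (Q : Set C) := by
    intro h hh
    obtain ⟨y, hy, hy0⟩ := hcon h hh
    rw [biUnion_associatedPrimes_eq_zero_divisors]
    refine ⟨E.symm y, fun h0 => hy0 (E.symm.injective (h0.trans (map_zero _).symm)), ?_⟩
    rw [algebraMap_smul, ← map_smul, hy, map_zero]
  have hfin : (associatedPrimes C P).Finite := associatedPrimes.finite C P
  let S : Finset (Ideal C) := hfin.toFinset
  have hcov : (I : Set B) ⊆ ⋃ Q ∈ (↑S : Set (Ideal C)), ((Q.comap (algebraMap B C) : Ideal B) : Set B) := by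
    intro h hh
    obtain ⟨Q, hQ, hhQ⟩ := Set.mem_iUnion₂.1 (hz h hh)
    exact Set.mem_iUnion₂.2 ⟨Q, by simpa [S] using hQ, hhQ⟩
  obtain ⟨Q, hQ, hIQ⟩ := (Ideal.subset_union_prime (⊥ : Ideal C) ⊥ (fun Q hQ _ _ => by
    haveI := IsAssociatedPrime.isPrime (show IsAssociatedPrime Q P by simpa [S, associatedPrimes] using hQ)
    infer_instance)).1 hcov
  have hQ' : IsAssociatedPrime Q P := by simpa [S, associatedPrimes] using hQ
  obtain ⟨hQp, y, hy⟩ := isAssociatedPrime_iff.1 hQ'
  have hy0 : y = 0 := E.injective ((hI (E y) fun h hh => by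
    have h1 : algebraMap B C h ∈ Submodule.colon (⊥ : Submodule C P) {y} := hy ▸ hIQ hh
    rw [Submodule.mem_colon_singleton, Submodule.mem_bot, algebraMap_smul] at h1
    rw [← map_smul, h1, map_zero]).trans (map_zero _).symm)
  refine hQp.ne_top ((Ideal.eq_top_iff_one Q).2 ?_)
  rw [hy, Submodule.mem_colon_singleton, one_smul, hy0]
  exact zero_mem _

/-- Regularity on a fibre is kept by extension of the residue field. -/
theorem regular_extend (h : B) {p : Ideal A} [p.IsPrime]
    (hreg : ∀ y : M ⊗[A] p.ResidueField, h • y = 0 → y = 0)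
    (K : Type u) [Field K] [Algebra p.ResidueField K] [Algebra A K] [IsScalarTower A p.ResidueField K] :
    Function.Injective ((Algebra.lsmul A A M h).lTensor K) := by
  let κ := p.ResidueField
  have h1 : Function.Injective ((Algebra.lsmul A A M h).baseChange κ) := by
    rw [injective_iff_map_eq_zero]
    intro y hy
    have e : ∀ z, (TensorProduct.comm A κ M) ((Algebra.lsmul A A M h).baseChange κ z) =
        h • TensorProduct.comm A κ M z := by
      intro z
      induction z using TensorProduct.induction_on with
      | zero => simp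
      | tmul a b => simp [TensorProduct.smul_tmul']
      | add a b ha hb => simp only [map_add, smul_add, ha, hb]
    refine (TensorProduct.comm A κ M).injective ?_
    rw [map_zero]
    exact hreg _ (by rw [← e, hy, map_zero])
  have h2 := Module.Flat.lTensor_preserves_injective_linearMap (M := K) _ h1
  let F : ∀ (N : Type u) [AddCommGroup N] [Module A N], K ⊗[κ] (κ ⊗[A] N) ≃ₗ[K] K ⊗[A] N :=
    fun N _ _ => AlgebraTensorModule.cancelBaseChange A κ K K N
  have e : ∀ z, F M (((Algebra.lsmul A A M h).baseChange κ).lTensor K z) =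
      (Algebra.lsmul A A M h).lTensor K (F M z) := by
    intro z
    induction z using TensorProduct.induction_on with
    | zero => simp
    | tmul a b =>
      induction b using TensorProduct.induction_on with
      | zero => simp
      | tmul c d => simp [F]
      | add c d hc hd => simp only [TensorProduct.tmul_add, map_add, hc, hd]
    | add a b ha hb => simp only [map_add, ha, hb]
  rw [injective_iff_map_eq_zero]
  intro x hx
  obtain ⟨z, rfl⟩ := (F M).surjective x
  rw [← e, map_eq_zero_iff _ (F M).injective, map_eq_zero_iff _ h2] at hx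
  rw [hx, map_zero]

variable [Algebra.FinitePresentation A B] [Module.FinitePresentation B M] [Module.Flat A M]
/-- The universal statement. -/
theorem eq_zero_of_noKill (A' : Type u) {B' M' : Type u} [CommRing A'] [CommRing B'] [Algebra A A'] [Algebra B B']
    [Algebra A' B'] [Algebra A B'] [IsScalarTower A B B'] [IsScalarTower A A' B'] [Algebra.IsPushout A A' B B']
    [AddCommGroup M'] [Module B' M'] [Module B M'] [IsScalarTower B B' M'] [Module A' M'] [IsScalarTower A' B' M']
    {I : Ideal B} (hI : ∀ (p : Ideal A) [p.IsPrime], NoKill A B M I p)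
    (j : M →ₗ[B] M') (hj : IsBaseChange B' j) (g : B') (z : M')
    (hz : ∀ h ∈ I, ∃ m k : ℕ, g ^ k • algebraMap B B' h ^ m • z = 0) : ∃ k : ℕ, g ^ k • z = 0 := by
  classical
  letI : Module A M' := Module.compHom M' (algebraMap A A')
  haveI : IsScalarTower A A' M' := IsScalarTower.of_algebraMap_smul fun _ _ => rfl
  let Θ : A' ⊗[A] M ≃ₗ[A'] M' :=
    (Algebra.IsPushout.cancelBaseChange A A' B B' M).symm.trans (hj.equiv.restrictScalars A')
  have hΘ : ∀ (a : A') (m : M), Θ (a ⊗ₜ m) = algebraMap A' B' a • j m := fun a m => by simp [Θ, hj.equiv_tmul]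
  haveI : Module.Flat A' M' := Module.Flat.of_linearEquiv Θ.symm
  haveI : Algebra.FinitePresentation A' B' :=
    Algebra.FinitePresentation.equiv (Algebra.IsPushout.equiv A A' B B')
  haveI : Module.FinitePresentation B' M' := FinitePresentation.of_isBaseChange j hj
  by_contra hne
  let J : Ideal B' := Ideal.torsionOf B' M' z
  have hdisj : Disjoint (J : Set B') (Submonoid.powers g : Set B') := by
    rw [Set.disjoint_left]
    rintro _ hx ⟨k, rfl⟩
    exact hne ⟨k, hx⟩
  obtain ⟨q, hq, hle, hqg⟩ := Ideal.exists_le_prime_disjoint J (Submonoid.powers g) hdisj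
  let p' := q.comap (algebraMap A' B')
  let p := p'.comap (algebraMap A A')
  obtain ⟨h, hh, hreg⟩ := exists_regular_of_noKill (hI p)
  letI : Algebra p.ResidueField p'.ResidueField :=
    (Ideal.ResidueField.map p p' (algebraMap A A') rfl).toAlgebra
  haveI : IsScalarTower A p.ResidueField p'.ResidueField := IsScalarTower.of_algebraMap_eq fun a => by
    rw [RingHom.algebraMap_toAlgebra, IsScalarTower.algebraMap_apply A A' p'.ResidueField,
      Ideal.ResidueField.map_algebraMap]
  have hinj := regular_extend h hreg p'.ResidueField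
  let G : p'.ResidueField ⊗[A'] (A' ⊗[A] M) ≃ₗ[p'.ResidueField] p'.ResidueField ⊗[A] M :=
    AlgebraTensorModule.cancelBaseChange A A' p'.ResidueField p'.ResidueField M
  let hM : A' ⊗[A] M →ₗ[A'] A' ⊗[A] M := (Algebra.lsmul A A M h).baseChange A'
  have hΘh : ∀ w, Θ (hM w) = algebraMap B B' h • Θ w := by
    intro w
    induction w using TensorProduct.induction_on with
    | zero => simp
    | tmul a m =>
      simp only [hM, LinearMap.baseChange_tmul, Algebra.lsmul_coe, hΘ, map_smul]
      rw [← algebraMap_smul B' h (j m), smul_comm]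
    | add a b ha hb => simp only [map_add, smul_add, ha, hb]
  have hGh : ∀ w, G (hM.lTensor p'.ResidueField w) = (Algebra.lsmul A A M h).lTensor p'.ResidueField (G w) := by
    intro w
    induction w using TensorProduct.induction_on with
    | zero => simp
    | tmul a b =>
      induction b using TensorProduct.induction_on with
      | zero => simp
      | tmul c d => simp [G, hM]
      | add c d hc hd => simp only [TensorProduct.tmul_add, map_add, hc, hd]
    | add a b ha hb => simp only [map_add, ha, hb]
  have hfib : ∀ x : M', (1 : p'.ResidueField) ⊗ₜ[A'] (algebraMap B B' h • x) = 0 →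
      (1 : p'.ResidueField) ⊗ₜ[A'] x = 0 := by
    intro x hx
    obtain ⟨w, rfl⟩ := Θ.surjective x
    rw [← hΘh] at hx
    have hx' : (1 : p'.ResidueField) ⊗ₜ[A'] hM w = 0 :=
      (Θ.lTensor p'.ResidueField).injective
        (((LinearEquiv.lTensor_tmul _ Θ _ _).trans hx).trans (map_zero _).symm)
    have h1 : (1 : p'.ResidueField) ⊗ₜ[A'] w = 0 := by
      refine G.injective ?_
      rw [map_zero]
      refine hinj (Eq.trans ?_ (map_zero _).symm)
      rw [← hGh, LinearMap.lTensor_tmul, hx', map_zero]
    have := congrArg (Θ.lTensor p'.ResidueField) h1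
    simpa using this
  obtain ⟨m, k, hmk⟩ := hz h hh
  have key : ∀ (m : ℕ) (w : M'), algebraMap B B' h ^ m • w = 0 → ∃ s ∉ q, s • w = 0 := by
    intro m
    induction m with
    | zero => exact fun w hw => ⟨1, q.ne_top_iff_one.1 hq.ne_top, by simpa using hw⟩
    | succ m ih =>
      intro w hw
      rw [pow_succ', mul_smul] at hw
      obtain ⟨s, hs, hsw⟩ := exists_smul_eq_zero_of_regular_fibre A' B' M' q p' rfl (algebraMap B B' h) hfib _ hw
      rw [smul_comm] at hsw
      obtain ⟨t, ht, htw⟩ := ih _ hsw
      exact ⟨t * s, hq.mul_notMem ht hs, by rwa [mul_smul]⟩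
  rw [smul_comm] at hmk
  obtain ⟨s, hs, hsz⟩ := key m _ hmk
  have hgk : g ^ k ∉ q := fun hmem => Set.disjoint_left.1 hqg hmem ⟨k, rfl⟩
  exact hq.mul_notMem hs hgk (hle ((mul_smul s _ z).trans hsz))

end Groth.Agent.UnivSep5
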