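import Groth.Agent.DescLib.RelS1
import Groth.Agent.FlatModel.Core

/-!
# Elements regular on a fibre, for a presented module with a flat model over a noetherian ring
-/

universe u

set_option autoImplicit false
set_option linter.style.haveILetI false

open TensorProduct

namespace Groth.Agent.UnivSep5

open FlatModel DescLib.RelS1

/-- An element regular on one fibre is regular near that fibre, for a presented module with a flat noetherian model. -/
theorem exists_smul_eq_zero_of_model {R₂ A : Type u} [CommRing R₂] [IsNoetherianRing R₂] [CommRing A] [Algebra R₂ A]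
    {d n : ℕ} {M : Type u} [AddCommGroup M] [Module (MvPolynomial (Fin n) A) M] [Module A M]
    [IsScalarTower A (MvPolynomial (Fin n) A) M]
    (π : V d n A →ₗ[MvPolynomial (Fin n) A] M) (hπ : Function.Surjective π)
    (K₂ : Submodule (MvPolynomial (Fin n) R₂) (V d n R₂)) [Module.Flat R₂ (V d n R₂ ⧸ K₂)]
    (hker : LinearMap.ker π = KK K₂ A) (a₁ : MvPolynomial (Fin n) R₂)
    (q : Ideal (MvPolynomial (Fin n) A)) [q.IsPrime]
    (hfib : ∀ (x : M),
      (1 : (q.comap (algebraMap A (MvPolynomial (Fin n) A))).ResidueField) ⊗ₜ[A] (MvPolynomial.map (algebraMap R₂ A) a₁ • x) = 0 →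
        (1 : (q.comap (algebraMap A (MvPolynomial (Fin n) A))).ResidueField) ⊗ₜ[A] x = 0)
    (x : M) (hx : MvPolynomial.map (algebraMap R₂ A) a₁ • x = 0) :
    ∃ s ∉ q, s • x = 0 := by
  let := Module.compHom M (algebraMap R₂ A)
  haveI : IsScalarTower R₂ A M := IsScalarTower.of_algebraMap_smul fun _ _ => rfl
  haveI : IsScalarTower R₂ (MvPolynomial (Fin n) A) M := IsScalarTower.of_algebraMap_smul fun r x => by
    rw [IsScalarTower.algebraMap_apply R₂ A (MvPolynomial (Fin n) A), algebraMap_smul]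
    rfl
  let g : MvPolynomial (Fin n) R₂ →+* MvPolynomial (Fin n) A := MvPolynomial.map (algebraMap R₂ A)
  let mk : V d n R₂ →ₗ[R₂] V d n R₂ ⧸ K₂ := K₂.mkQ.restrictScalars R₂
  let πl : V d n R₂ →ₗ[R₂] M := (π.restrictScalars R₂).comp (mapL (R₀ := R₂) A)
  have hkill : ∀ x ∈ K₂.restrictScalars R₂, πl x = 0 := fun x hx =>
    show mapL (R₀ := R₂) A x ∈ LinearMap.ker π by rw [hker]; exact mapL_mem_KK K₂ hx
  let j : (V d n R₂ ⧸ K₂) →ₗ[R₂] M :=
    (Submodule.liftQ (K₂.restrictScalars R₂) πl hkill).comp (Submodule.Quotient.restrictScalarsEquiv R₂ K₂).symm.toLinearMap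
  have hj_mk : ∀ x, j (mk x) = πl x := fun x => rfl
  let ρ : V d n A →ₗ[A] A ⊗[R₂] (V d n R₂ ⧸ K₂) :=
    (B d n A).constr A fun e => 1 ⊗ₜ mk (B d n R₂ e)
  haveI : IsScalarTower R₂ A (V d n A) := IsScalarTower.of_algebraMap_smul fun r v => by
    funext i
    exact algebraMap_smul A r (v i)
  haveI : LinearMap.CompatibleSMul (V d n A) (A ⊗[R₂] (V d n R₂ ⧸ K₂)) R₂ A :=
    LinearMap.IsScalarTower.compatibleSMul
  have hρ : ∀ x, ρ (mapL (R₀ := R₂) A x) = 1 ⊗ₜ mk x := by
    suffices h : (ρ.restrictScalars R₂).comp (mapL (R₀ := R₂) A) =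
        (TensorProduct.mk R₂ A (V d n R₂ ⧸ K₂) 1).comp mk from fun x => LinearMap.congr_fun h x
    refine (B d n R₂).ext fun e => ?_
    show ρ (mapL (R₀ := R₂) A _) = _
    rw [mapL_B, Module.Basis.constr_basis]
    rfl
  have hρsurj : Function.Surjective ρ := by
    intro z
    induction z using TensorProduct.induction_on with
    | zero => exact ⟨0, map_zero _⟩
    | tmul r m =>
      obtain ⟨x, rfl⟩ := K₂.mkQ_surjective m
      refine ⟨r • mapL (R₀ := R₂) A x, ?_⟩
      rw [map_smul, hρ, TensorProduct.smul_tmul', smul_eq_mul, mul_one]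
      rfl
    | add u v hu hv =>
      obtain ⟨u, rfl⟩ := hu; obtain ⟨v, rfl⟩ := hv
      exact ⟨u + v, map_add _ _ _⟩
  have hψρ : ∀ v, j.liftBaseChange A (ρ v) = π v := by
    suffices h : (j.liftBaseChange A).comp ρ = π.restrictScalars A from fun v => LinearMap.congr_fun h v
    refine (B d n A).ext fun e => ?_
    rw [LinearMap.comp_apply, Module.Basis.constr_basis, LinearMap.liftBaseChange_tmul, one_smul, hj_mk]
    show π (mapL (R₀ := R₂) A _) = _
    rw [mapL_B]
    rfl
  have hρker : ∀ v ∈ KK K₂ A, ρ v = 0 := by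
    intro v hv
    have h := smul_KK_le_closure K₂ (⊤ : Ideal A) (x := v) (by rwa [Ideal.map_top, Submodule.top_smul])
    clear hv
    induction h using AddSubmonoid.closure_induction with
    | mem y hy =>
      obtain ⟨r, -, w, hw', rfl⟩ := hy
      rw [map_smul]
      rw [hρ, show mk w = 0 from (Submodule.Quotient.mk_eq_zero K₂).2 hw', TensorProduct.tmul_zero, smul_zero]
    | zero => exact map_zero _
    | add u w _ _ ihu ihw => rw [map_add, ihu, ihw, add_zero]
  have hbij : Function.Bijective (j.liftBaseChange A) := by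
    constructor
    · rw [injective_iff_map_eq_zero]
      intro z hz
      obtain ⟨v, rfl⟩ := hρsurj z
      exact hρker v (hker ▸ LinearMap.mem_ker.2 (by rw [← hψρ, hz]))
    · intro x
      obtain ⟨v, rfl⟩ := hπ x
      exact ⟨ρ v, hψρ v⟩
  have hj : IsBaseChange A j := IsBaseChange.of_equiv (LinearEquiv.ofBijective _ hbij) fun x => by simp
  have hjs : ∀ (x : MvPolynomial (Fin n) R₂) m, j (x • m) = g x • j m := by
    intro x m
    obtain ⟨m, rfl⟩ := K₂.mkQ_surjective m
    rw [← map_smul K₂.mkQ]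
    show π (mapV (algebraMap R₂ A) (x • m)) = g x • π (mapV (algebraMap R₂ A) m)
    rw [mapV_smul, map_smul]
  let θ : (V d n R₂ ⧸ K₂) ⊗[R₂] A ≃+ M := (TensorProduct.comm R₂ _ A).toAddEquiv.trans hj.equiv.toAddEquiv
  have hθ : ∀ (b : MvPolynomial (Fin n) R₂) y, θ (b • y) = g b • θ y := by
    intro b y
    induction y using TensorProduct.induction_on with
    | zero => simp
    | tmul m r =>
      show hj.equiv (r ⊗ₜ[R₂] (b • m)) = g b • hj.equiv (r ⊗ₜ[R₂] m)
      rw [hj.equiv_tmul, hj.equiv_tmul, hjs, smul_comm]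
    | add y w hy hw => simp only [smul_add, map_add, hy, hw]
  obtain ⟨z, rfl⟩ := θ.surjective x
  have hz : a₁ • z = 0 := θ.injective (by rw [hθ, hx, map_zero])
  let p := q.comap (algebraMap A (MvPolynomial (Fin n) A))
  obtain ⟨s, hs, hsz⟩ := exists_smul_eq_zero (q.comap g) p
    (by
      rw [Ideal.comap_comap, Ideal.comap_comap]
      exact congrArg (q.comap ·) (MvPolynomial.map_comp_C (algebraMap R₂ A))) a₁ (fun m hm => by
      have hjκ := hj.comp (TensorProduct.isBaseChange A M p.ResidueField)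
      refine hjκ.equiv.injective ?_
      rw [map_zero, hjκ.equiv_tmul, one_smul]
      refine hfib (j m) ?_
      have h5 := congrArg hjκ.equiv hm
      rw [map_zero, hjκ.equiv_tmul, one_smul] at h5
      rw [← hjs]
      exact h5) z hz
  exact ⟨g s, hs, by rw [← hθ, hsz, map_zero]⟩

end Groth.Agent.UnivSep5
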