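import Groth.Agent.UnivSep5.LocalModel
import Mathlib.RingTheory.Finiteness.Prod
import Mathlib.RingTheory.FinitePresentation
import Mathlib.Algebra.Module.FinitePresentation

/-!
# An element regular on a fibre of a flat finitely presented module is regular near that fibre
-/

universe u

set_option autoImplicit false
set_option linter.style.haveILetI false

open TensorProduct

namespace Groth.Agent.UnivSep5

/-- If `a` is regular on the fibre under `q`, every element killed by `a` is killed by some `s ∉ q`. -/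
theorem exists_smul_eq_zero_of_regular_fibre (A B M : Type u) [CommRing A] [CommRing B] [Algebra A B]
    [Algebra.FinitePresentation A B] [AddCommGroup M] [Module B M] [Module A M]
    [IsScalarTower A B M] [Module.FinitePresentation B M] [Module.Flat A M]
    (q : Ideal B) [q.IsPrime] (p : Ideal A) [p.IsPrime] (hp : q.comap (algebraMap A B) = p) (a : B)
    (hfib : ∀ x : M, (1 : p.ResidueField) ⊗ₜ[A] (a • x) = 0 → (1 : p.ResidueField) ⊗ₜ[A] x = 0)
    (x : M) (hx : a • x = 0) : ∃ s ∉ q, s • x = 0 := by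
  classical
  -- presentation
  obtain ⟨n, φ, hφ, hkerφ⟩ := Algebra.FinitePresentation.out (R := A) (A := B)
  let := φ.toRingHom.toAlgebra
  let := Module.compHom M φ.toRingHom
  have : IsScalarTower (MvPolynomial (Fin n) A) B M := ⟨fun p s m => mul_smul (φ p) s m⟩
  have : IsScalarTower A (MvPolynomial (Fin n) A) M := ⟨fun r p m => by
    show φ (r • p) • m = r • φ p • m
    rw [map_smul, smul_assoc]⟩
  have hkA : (LinearMap.ker (Algebra.linearMap (MvPolynomial (Fin n) A) B)).FG := hkerφ
  have : Module.FinitePresentation (MvPolynomial (Fin n) A) B :=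
    Module.finitePresentation_of_surjective (Algebra.linearMap (MvPolynomial (Fin n) A) B) hφ hkA
  have : Module.FinitePresentation (MvPolynomial (Fin n) A) M := Module.FinitePresentation.trans _ M B
  obtain ⟨d, π, hπ⟩ := Module.Finite.exists_fin' (MvPolynomial (Fin n) A) M
  obtain ⟨G, hG⟩ := Module.FinitePresentation.fg_ker π hπ
  obtain ⟨ã, rfl⟩ := hφ a
  let c : Finset A := (G.biUnion fun v => Finset.univ.biUnion fun i => (v i).coeffs) ∪ ã.coeffs
  let R₀ : Subalgebra ℤ A := Algebra.adjoin ℤ (c : Set A)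
  have : Algebra.FiniteType ℤ R₀ := (Subalgebra.fg_iff_finiteType R₀).1 (Subalgebra.fg_adjoin_finset c)
  have : IsNoetherianRing R₀ := Algebra.FiniteType.isNoetherianRing ℤ R₀
  have hlift : ∀ q : MvPolynomial (Fin n) A, q.coeffs ⊆ c →
      ∃ q₀ : MvPolynomial (Fin n) R₀, MvPolynomial.map (algebraMap R₀ A) q₀ = q := fun q hq =>
    MvPolynomial.mem_range_map_iff_coeffs_subset.2 fun x hx => ⟨⟨x, Algebra.subset_adjoin (hq hx)⟩, rfl⟩
  have hGdesc : ∀ v ∈ G, ∃ w : FlatModel.V d n R₀, FlatModel.mapV (algebraMap R₀ A) w = v := by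
    intro v hv
    choose w hw using fun i => hlift (v i) fun x hx =>
      Finset.mem_union_left _ (Finset.mem_biUnion.2 ⟨v, hv, Finset.mem_biUnion.2 ⟨i, Finset.mem_univ _, hx⟩⟩)
    exact ⟨w, funext hw⟩
  obtain ⟨a₀, ha₀⟩ := hlift ã Finset.subset_union_right
  choose! lv hlv using hGdesc
  let K₀ : Submodule (MvPolynomial (Fin n) R₀) (FlatModel.V d n R₀) := Submodule.span _ (lv '' G)
  have hker : LinearMap.ker π = FlatModel.KK K₀ A := by
    apply le_antisymm
    · rw [← hG, Submodule.span_le]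
      intro v hv
      exact Submodule.subset_span ⟨lv v, Submodule.subset_span ⟨v, hv, rfl⟩, hlv v hv⟩
    · rw [FlatModel.KK, Submodule.span_le]
      rintro _ ⟨w, hw, rfl⟩
      refine Submodule.span_le.2 ?_ (FlatModel.mapV_mem_span (algebraMap R₀ A) hw)
      rintro _ ⟨w, ⟨v, hv, rfl⟩, rfl⟩
      rw [hlv v hv]
      exact hG.le (Submodule.subset_span hv)
  have hflatA : FlatModel.FlatC K₀ A := (FlatModel.flatC_iff_flat K₀).2
    (Module.Flat.of_linearEquiv (((Submodule.quotEquivOfEq _ _ hker.symm).trans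
      (π.quotKerEquivOfSurjective hπ)).restrictScalars A))
  obtain ⟨R₂, hR₂, hflat⟩ := FlatModel.exists_fg_flatC K₀ hflatA
  have : Algebra.FiniteType R₀ R₂ := (Subalgebra.fg_iff_finiteType R₂).1 hR₂
  have : IsNoetherianRing R₂ := Algebra.FiniteType.isNoetherianRing R₀ R₂
  have hK : FlatModel.KK K₀ A = FlatModel.KK (FlatModel.KK K₀ R₂) A := by
    have hw : ∀ w, FlatModel.mapV (algebraMap R₂ A) (FlatModel.mapV (algebraMap R₀ R₂) w) =
        (FlatModel.mapV (algebraMap R₀ A) w : FlatModel.V d n A) := fun w => by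
      rw [FlatModel.mapV_mapV, ← IsScalarTower.algebraMap_eq]
    refine le_antisymm (Submodule.span_le.2 ?_) (Submodule.span_le.2 ?_)
    · rintro _ ⟨w, hw', rfl⟩
      exact Submodule.subset_span ⟨_, Submodule.subset_span ⟨w, hw', rfl⟩, hw w⟩
    · rintro _ ⟨x, hx, rfl⟩
      refine Submodule.span_le.2 ?_ (FlatModel.mapV_mem_span (algebraMap R₂ A) hx)
      rintro _ ⟨_, ⟨w, hw', rfl⟩, rfl⟩
      exact Submodule.subset_span ⟨w, hw', (hw w).symm⟩
  haveI : Module.Flat R₂ (FlatModel.V d n R₂ ⧸ FlatModel.KK K₀ R₂) := (FlatModel.flatC_iff_flat K₀).1 hflat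
  have hga : MvPolynomial.map (algebraMap R₂ A) (MvPolynomial.map (algebraMap R₀ R₂) a₀) = ã := by
    rw [MvPolynomial.map_map, ← IsScalarTower.algebraMap_eq, ha₀]
  have hq : (q.comap φ.toRingHom).comap (algebraMap A (MvPolynomial (Fin n) A)) = p := by
    rw [Ideal.comap_comap, ← hp]
    exact congrArg (q.comap ·) φ.comp_algebraMap
  have key : ∀ (p' : Ideal A) [p'.IsPrime], p' = p → ∀ y : M,
      (1 : p'.ResidueField) ⊗ₜ[A] (φ ã • y) = 0 → (1 : p'.ResidueField) ⊗ₜ[A] y = 0 := by
    intro p' _ h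
    subst h
    exact hfib
  obtain ⟨s, hs, hsx⟩ := exists_smul_eq_zero_of_model π hπ (FlatModel.KK K₀ R₂) (hker.trans hK)
    (MvPolynomial.map (algebraMap R₀ R₂) a₀) (q.comap φ.toRingHom) (by rw [hga]; exact key _ hq) x
    (by rw [hga]; exact hx)
  exact ⟨φ s, hs, hsx⟩

end Groth.Agent.UnivSep5
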