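import Groth.Agent.UnivSep5.Step

/-!
# Families that are separating modulo an ideal with free graded pieces
-/

universe u

set_option autoImplicit false
set_option linter.style.haveILetI false

open TensorProduct

namespace Groth.Agent.UnivSep5

variable {R : Type u} [CommRing R]

/-- An element vanishing modulo `r` is in `r • ⊤`. -/
theorem mem_of_tmul_eq_zero (r : Ideal R) {X : Type u} [AddCommGroup X] [Module R X] (x : X)
    (hx : (1 : R ⧸ r) ⊗ₜ[R] x = 0) : x ∈ (r • ⊤ : Submodule R X) := by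
  have h3 := congrArg (TensorProduct.quotTensorEquivQuotSMul X r) hx
  rw [map_zero] at h3
  erw [TensorProduct.quotTensorEquivQuotSMul_mk_one_tmul] at h3
  exact (Submodule.Quotient.mk_eq_zero _).1 h3

variable {ι : Type u} {M : Type u} [AddCommGroup M] [Module R M] {N : ι → Type u} [∀ i, AddCommGroup (N i)]
  [∀ i, Module R (N i)]

/-- If a family commuting with endomorphisms detects modulo `r` and `r ^ n / r ^ (n + 1)` is free, an element of
`r ^ n • ⊤` killed by the family moves, up to a power of the endomorphism, into `r ^ (n + 1) • ⊤`. -/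
theorem exists_mem_succ_of_free [∀ i, Module.Flat R (N i)] (r : Ideal R) (G : Module.End R M)
    (H : ∀ i, Module.End R (N i)) (w : ∀ i, M →ₗ[R] N i) (hG : ∀ i x, H i (w i x) = w i (G x))
    (hfib : ∀ y : (R ⧸ r) ⊗[R] M,
      (∀ i, ∃ m : ℕ, (H i ^ m).lTensor (R ⧸ r) ((w i).lTensor (R ⧸ r) y) = 0) →
        ∃ m : ℕ, (G ^ m).lTensor (R ⧸ r) y = 0)
    (n : ℕ) [Module.Free (R ⧸ r) ((R ⧸ r) ⊗[R] ↥(r ^ n))] (z : M) (hz : z ∈ (r ^ n • ⊤ : Submodule R M)) (hk : ∀ i, ∃ m : ℕ, (H i ^ m) (w i z) = 0) :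
    ∃ m : ℕ, (G ^ m) z ∈ (r ^ (n + 1) • ⊤ : Submodule R M) := by
  classical
  let κ := (R ⧸ r)
  let J : Submodule R R := r ^ n
  let μ : ∀ (X : Type u) [AddCommGroup X] [Module R X], ↥J ⊗[R] X →ₗ[R] X := fun X _ _ =>
    (TensorProduct.lid R X).toLinearMap ∘ₗ J.subtype.rTensor X
  have hμ : ∀ (X : Type u) [AddCommGroup X] [Module R X] (j : ↥J) (x : X), μ X (j ⊗ₜ x) = (j : R) • x :=
    fun X _ _ j x => by simp [μ]
  have hμnat : ∀ (X Y : Type u) [AddCommGroup X] [Module R X] [AddCommGroup Y] [Module R Y]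
      (f : X →ₗ[R] Y) (x : ↥J ⊗[R] X), μ Y (f.lTensor _ x) = f (μ X x) := by
    intro X Y _ _ _ _ f x
    induction x using TensorProduct.induction_on with
    | zero => simp
    | tmul j x => simp [hμ]
    | add a b ha hb => simp only [map_add, ha, hb]
  obtain ⟨x, rfl⟩ : ∃ x, μ M x = z := by
    refine Submodule.smul_induction_on hz (fun a ha y _ => ⟨⟨a, ha⟩ ⊗ₜ y, hμ M _ _⟩) ?_
    rintro _ _ ⟨a, rfl⟩ ⟨b, rfl⟩
    exact ⟨a + b, map_add _ _ _⟩
  have hx : ∀ i, ∃ m : ℕ, (H i ^ m).lTensor ↥J ((w i).lTensor ↥J x) = 0 := by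
    intro i
    obtain ⟨m, hm⟩ := hk i
    refine ⟨m, ?_⟩
    have hinj : Function.Injective (μ (N i)) :=
      (TensorProduct.lid R (N i)).injective.comp
        (Module.Flat.rTensor_preserves_injective_linearMap J.subtype J.injective_subtype)
    refine hinj ?_
    rw [map_zero, hμnat, hμnat, hm]
  let b := Module.Free.chooseBasis κ (κ ⊗[R] ↥J)
  let Ψ : ∀ (X : Type u) [AddCommGroup X] [Module R X],
      κ ⊗[R] (↥J ⊗[R] X) ≃ₗ[κ] (Module.Free.ChooseBasisIndex κ (κ ⊗[R] ↥J) →₀ κ ⊗[R] X) := fun X _ _ =>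
    (AlgebraTensorModule.distribBaseChange R κ ↥J X).trans (TensorProduct.equivFinsuppOfBasisLeft b)
  have hΨnat : ∀ (X Y : Type u) [AddCommGroup X] [Module R X] [AddCommGroup Y] [Module R Y]
      (f : X →ₗ[R] Y) (q : κ ⊗[R] (↥J ⊗[R] X)) l,
      Ψ Y ((f.lTensor ↥J).lTensor κ q) l = f.lTensor κ (Ψ X q l) := by
    intro X Y _ _ _ _ f q l
    induction q using TensorProduct.induction_on with
    | zero => simp
    | tmul a v =>
      induction v using TensorProduct.induction_on with
      | zero => simp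
      | tmul j y => simp [Ψ, AlgebraTensorModule.distribBaseChange, TensorProduct.equivFinsuppOfBasisLeft_apply_tmul_apply,
          TensorProduct.smul_tmul']
      | add a b ha hb => simp only [TensorProduct.tmul_add, map_add, Finsupp.add_apply, ha, hb]
    | add a b ha hb => simp only [map_add, Finsupp.add_apply, ha, hb]
  let c := Ψ M ((1 : κ) ⊗ₜ[R] x)
  have hc : ∀ l, ∃ m : ℕ, (G ^ m).lTensor κ (c l) = 0 := fun l => hfib _ fun i => by
    obtain ⟨m, hm⟩ := hx i
    refine ⟨m, ?_⟩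
    rw [← hΨnat, ← hΨnat]
    simp only [LinearMap.lTensor_tmul, hm, TensorProduct.tmul_zero, map_zero, Finsupp.zero_apply]
  choose m hm using hc
  let K := c.support.sup m
  have hK : (1 : κ) ⊗ₜ[R] (G ^ K).lTensor ↥J x = 0 := by
    refine (Ψ M).injective (Finsupp.ext fun l => ?_)
    rw [map_zero, Finsupp.zero_apply, ← LinearMap.lTensor_tmul, hΨnat]
    by_cases hl : l ∈ c.support
    · obtain ⟨d, hd⟩ := Nat.exists_eq_add_of_le' (Finset.le_sup (f := m) hl)
      rw [show K = d + m l from hd, pow_add, Module.End.mul_eq_comp,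
        LinearMap.lTensor_comp_apply, hm l, map_zero]
    · rw [show Ψ M ((1 : κ) ⊗ₜ[R] x) l = 0 from Finsupp.notMem_support_iff.1 hl, map_zero]
  have hmem := mem_of_tmul_eq_zero r _ hK
  refine ⟨K, ?_⟩
  have h1 : μ M ((G ^ K).lTensor ↥J x) ∈ (r ^ (n + 1) • ⊤ : Submodule R M) := by
    refine Submodule.smul_induction_on hmem (fun a ha v hv => ?_) fun a b ha hb => by
      rw [map_add]; exact add_mem ha hb
    rw [map_smul]
    clear hv
    induction v using TensorProduct.induction_on with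
    | zero => simp
    | tmul j y =>
      rw [hμ, smul_smul, pow_succ']
      exact Submodule.smul_mem_smul (Ideal.mul_mem_mul ha j.2) Submodule.mem_top
    | add p q hp hq => rw [map_add, smul_add]; exact add_mem hp hq
  rwa [hμnat] at h1

end Groth.Agent.UnivSep5
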