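import Groth.Agent.UnivSep5.Detects
import Groth.Agent.UnivSep5.StepFree
import Mathlib.RingTheory.Nilpotent.Basic

/-!
# Families separating modulo a nilpotent ideal with free graded pieces
-/

universe u

set_option autoImplicit false
set_option linter.style.haveILetI false
set_option backward.isDefEq.respectTransparency false

open TensorProduct

namespace Groth.Agent.UnivSep5

open SepFlat5

variable {A B : Type u} [CommRing A] [CommRing B] [Algebra A B] {M : Type u} [AddCommGroup M] [Module B M]
  [Module A M] [IsScalarTower A B M] {ι : Type u} {N : ι → Type u} [∀ i, AddCommGroup (N i)] [∀ i, Module B (N i)]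
  [∀ i, Module A (N i)] [∀ i, IsScalarTower A B (N i)] [∀ i, Module.Flat A (N i)] {v : ∀ i, M →ₗ[B] N i}

theorem detects_of_nilpotent (J : Ideal A) (hJ : IsNilpotent J)
    (hfree : ∀ k : ℕ, Module.Free (A ⧸ J) ((A ⧸ J) ⊗[A] ↥(J ^ k))) (h : DetectsAt A v (A ⧸ J)) : Detects v := by
  intro g z hz
  let G : Module.End A M := Algebra.lsmul A A M g
  let H : ∀ i, Module.End A (N i) := fun i => Algebra.lsmul A A (N i) g
  let w : ∀ i, M →ₗ[A] N i := fun i => (v i).restrictScalars A
  have hGpow : ∀ m y, (G ^ m) y = g ^ m • y := fun m y => by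
    rw [← map_pow]; rfl
  have hHpow : ∀ i m y, (H i ^ m) y = g ^ m • y := fun i m y => by
    rw [← map_pow]; rfl
  let κ := A ⧸ J
  let C := B ⊗[A] κ
  let E : ∀ (X : Type u) [AddCommGroup X] [Module B X] [Module A X] [IsScalarTower A B X],
      C ⊗[B] X ≃ₗ[B] X ⊗[A] κ :=
    fun X _ _ _ _ => (TensorProduct.comm B C X).trans (AlgebraTensorModule.cancelBaseChange A B B X κ)
  have hκ : ∀ y : κ ⊗[A] M, (∀ i, ∃ m : ℕ, (H i ^ m).lTensor κ ((w i).lTensor κ y) = 0) →
      ∃ m : ℕ, (G ^ m).lTensor κ y = 0 := by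
    intro y hy
    have hEsmul : ∀ (X : Type u) [AddCommGroup X] [Module B X] [Module A X] [IsScalarTower A B X]
        (m : ℕ) (f : X →ₗ[A] X) (_ : ∀ x, f x = g ^ m • x) (u : κ ⊗[A] X),
        (E X).symm (TensorProduct.comm A κ X (f.lTensor κ u)) =
          (algebraMap B C g) ^ m • (E X).symm (TensorProduct.comm A κ X u) := by
      intro X _ _ _ _ m f hf u
      rw [← map_pow, algebraMap_smul, ← map_smul]
      congr 1
      induction u using TensorProduct.induction_on with
      | zero => simp
      | tmul a x => simp [hf, TensorProduct.smul_tmul']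
      | add a b ha hb => simp only [map_add, smul_add, ha, hb]
    have hEnat : ∀ i (u : κ ⊗[A] M), (v i).baseChange C ((E M).symm (TensorProduct.comm A κ M u)) =
        (E (N i)).symm (TensorProduct.comm A κ (N i) ((w i).lTensor κ u)) := by
      intro i u
      induction u using TensorProduct.induction_on with
      | zero => simp
      | tmul a x => rfl
      | add a b ha hb => simp only [map_add, ha, hb]
    obtain ⟨m, hm⟩ := h (algebraMap B C g) ((E M).symm (TensorProduct.comm A κ M y)) fun i => by
      obtain ⟨m, hm⟩ := hy i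
      refine ⟨m, ?_⟩
      rw [hEnat, ← hEsmul (N i) m (H i ^ m) (hHpow i m), hm, map_zero, map_zero]
    refine ⟨m, (TensorProduct.comm A κ M).injective ((E M).symm.injective ?_)⟩
    rw [hEsmul M m (G ^ m) (hGpow m), hm, map_zero, map_zero]
  have key : ∀ n : ℕ, ∃ m : ℕ, g ^ m • z ∈ (J ^ n • ⊤ : Submodule A M) := by
    intro n
    induction n with
    | zero => exact ⟨0, by simp⟩
    | succ n ih =>
      obtain ⟨m, hm⟩ := ih
      haveI := hfree n
      obtain ⟨k, hk⟩ := exists_mem_succ_of_free J G H w (fun i x => by simp [G, H, w]) hκ n (g ^ m • z) hm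
        fun i => by
          obtain ⟨l, hl⟩ := hz i
          refine ⟨l, ?_⟩
          rw [hHpow]
          show g ^ l • v i (g ^ m • z) = 0
          rw [map_smul, smul_comm, hl, smul_zero]
      refine ⟨k + m, ?_⟩
      rwa [show g ^ (k + m) • z = (G ^ k) (g ^ m • z) by rw [hGpow, pow_add, mul_smul]]
  obtain ⟨n, hn⟩ := hJ
  obtain ⟨m, hm⟩ := key n
  refine ⟨m, ?_⟩
  rw [hn] at hm
  simpa using hm

end Groth.Agent.UnivSep5
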